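import Cfsg.Agent.H594.LB.Mu_m3
import Cfsg.Agent.H996.Eight.TabE8a
import Cfsg.Agent.H594.PQ.LinkE8b
import Cfsg.Agent.H710.R4.Sph_m3
import Cfsg.Agent.H996.PQ.BigSum_m3
import Cfsg.Agent.H439.CC.Mult_m3
import Cfsg.Agent.H594.LB.MuZero_m3
import Cfsg.Agent.H116.HeckeU.Equiv
import Cfsg.Agent.H116.RatB0.RowRgd
import Cfsg.Agent.H996.Eight.Kq
import Cfsg.Agent.Lib.FinFast
import Cfsg.Agent.FastGrp
import Cfsg.Agent.Prune
set_option linter.all false
prune_inst 0x7ffdfff8ffacffffffff7e3fffffdffc31c6cfffefdffb43ffefebbfbfff37b33bedfba71de0d0ff8ed6e0b630b87853fbffffffec6ffc7ffffdfff41ffbee4ff5f7350951d59c341fbc0fff83f177ee6f3ffffffffffffffffffffffffffffffffffbfeffff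
open scoped Cfsg.Agent.FastGrp

-- part: H594/LB/Inv
section
/-!
# The classes of the pairs of states, nodes `7` and `6` of `E₈`: invariance (helper594, S4879)

The data are `H632.LB.Inv6D`.
* `inv7_o`, `inv7_st` : the table `TabE8a.tab`;
* `inv6_o`, `inv6_st` : the table `TabE8c.data.t`.
-/

set_option autoImplicit false
set_option linter.unusedSectionVars false
set_option maxRecDepth 20000

namespace Cfsg.Agent.H594.LB.Inv

open Cfsg.Agent.H632.PQ.Fast Cfsg.Agent.H996.Eight.En Cfsg.Agent.H64.Dl.Sph Cfsg.Agent.H996.Eight.Cert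
  Cfsg.Agent.H967.Sph Cfsg.Agent.H996.PQ Cfsg.Agent.H996.PQ.Big Cfsg.Agent.H996.PQ.Big.Bg Cfsg.Agent.H632.LB
  Cfsg.Agent.H996.Eight

/-! ### Node `7` -/

/-- the reflections on the states of node `7`, as numbers -/
noncomputable def s7 (i s : ℕ) : ℕ := dig 10 TabE8a.enc.S (Nat.add (Nat.mul 8 s) i)

theorem lt7' : (allN 8 fun i => allN 240 fun s => Nat.ble (s7 i s) 239) = true := by decide +kernel

theorem lt7 {i s : ℕ} (hi : i < 8) (hs : s < 240) : s7 i s < 240 :=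
  Nat.lt_succ_of_le (Nat.le_of_ble_eq_true (allN_spec (allN_spec lt7' i hi) s hs))

/-- rows of `768` bits -/
noncomputable def pk (f : ℕ → ℕ) (n : ℕ) : ℕ :=
  Nat.rec 0 (fun k ih => Nat.add (Nat.shiftLeft (dig 768 (f k) 0) (Nat.mul 768 k)) ih) n

theorem testBit_dig (b V k j : ℕ) : (dig b V k).testBit j = (V.testBit (b * k + j) && decide (j < b)) := by
  show ((V >>> (b * k)) &&& (1 <<< b - 1)).testBit j = _
  rw [Nat.testBit_and, Nat.testBit_shiftRight, Nat.one_shiftLeft, Nat.testBit_two_pow_sub_one]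

theorem pk_spec (f : ℕ → ℕ) (n : ℕ) : pk f n < 2 ^ (768 * n) ∧
    ∀ s < n, ∀ j < 768, (pk f n).testBit (768 * s + j) = (f s).testBit j := by
  induction n with
  | zero => exact ⟨Nat.one_pos, fun _ h => absurd h (Nat.not_lt_zero _)⟩
  | succ n ih =>
    have e : pk f (n + 1) = 2 ^ (768 * n) * dig 768 (f n) 0 + pk f n :=
      congrArg (· + pk f n) ((Nat.shiftLeft_eq _ _).trans (Nat.mul_comm _ _))
    refine ⟨Nat.lt_pow_two_of_testBit _ fun j hj => ?_, fun s hs j hj => ?_⟩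
    · rw [e, Nat.testBit_two_pow_mul_add _ ih.1, if_neg (by omega), testBit_dig, decide_eq_false (by omega), Bool.and_false]
    · rw [e, Nat.testBit_two_pow_mul_add _ ih.1]
      rcases Nat.lt_succ_iff_lt_or_eq.1 hs with h | rfl
      · rw [if_pos (by omega), ih.2 s h j hj]
      · rw [if_neg (by omega), Nat.add_sub_cancel_left, testBit_dig, decide_eq_true hj, Bool.and_true, Nat.mul_zero,
          Nat.zero_add]

/-- the test of the invariance: the columns of the table with permuted rows -/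
noncomputable def c7 : Bool := force (fun M => allN 8 fun i => force (fun P => allN 240 fun u =>
  Nat.beq (Nat.land (Nat.shiftRight P (Nat.mul 3 (s7 i u))) M) (Nat.land (Nat.shiftRight IP (Nat.mul 3 u)) M))
    (pk (fun s => dig 768 IP (s7 i s)) 240)) (pk (fun _ => 7) 240)

theorem c7_all : c7 = true := by decide +kernel

theorem ip_st (i : Fin 8) {s u : ℕ} (hs : s < 240) (hu : u < 240) : ipN (s7 i s) (s7 i u) = ipN s u := by
  have h0 := c7_all
  rw [c7, force_eq] at h0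
  have h1 := allN_spec h0 i i.2
  rw [force_eq] at h1
  have h2 := Nat.eq_of_beq_eq_true (allN_spec h1 u hu)
  have h3 := lt7 i.2 hu
  refine (digF_eq _ _ _).trans (Eq.trans (Nat.eq_of_testBit_eq fun j => ?_) (digF_eq _ _ _).symm)
  rw [testBit_dig, testBit_dig]
  by_cases hj : j < 3
  · have h4 : (_ >>> (3 * s7 i u) &&& _).testBit (768 * s + j) = (IP >>> (3 * u) &&& _).testBit (768 * s + j) :=
      congrArg (Nat.testBit · (768 * s + j)) h2
    have h5 : (7 : ℕ).testBit j = true := (Nat.testBit_two_pow_sub_one 3 j).trans (decide_eq_true hj)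
    rw [Nat.testBit_and, Nat.testBit_and, (pk_spec _ 240).2 s hs j (by omega), h5, Bool.and_true, Bool.and_true,
      Nat.testBit_shiftRight, Nat.testBit_shiftRight, show 3 * s7 i u + (768 * s + j) = 768 * s + (3 * s7 i u + j) by omega,
      (pk_spec _ 240).2 s hs _ (by omega), testBit_dig, decide_eq_true (by omega), Bool.and_true] at h4
    rw [show 3 * Nat.add (Nat.mul 256 (s7 i s)) (s7 i u) + j = 768 * s7 i s + (3 * s7 i u + j) by
        show 3 * (256 * _ + _) + j = _; omega, h4,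
      show 3 * Nat.add (Nat.mul 256 s) u + j = 3 * u + (768 * s + j) by show 3 * (256 * _ + _) + j = _; omega]
  · rw [decide_eq_false hj, Bool.and_false, Bool.and_false]

theorem o7 : (allN 240 fun u => Nat.beq (ipN 0 u) (dig 5 TabE8a.enc.C u)) = true := by decide +kernel

theorem inv7_o (u : Fin 240) : inv7 TabE8a.tab.o u = TabE8a.tab.cls u := by
  have h1 : ipN 0 u = dig 5 TabE8a.enc.C u := Nat.eq_of_beq_eq_true (allN_spec o7 u u.2)
  show Fin.ofNat 5 (ipN 0 u) = Fin.ofNat 5 (dig 5 TabE8a.enc.C u)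
  rw [h1]

theorem val7 (i : Fin 8) (s : Fin 240) : ((TabE8a.tab.st i s : Fin 240) : ℕ) = s7 i s := by
  show s7 i s % 240 = s7 i s
  exact Nat.mod_eq_of_lt (lt7 i.2 s.2)

/-- **The class of a pair at node `7` is invariant.** -/
theorem inv7_st (i : Fin 8) (s u : Fin 240) : inv7 (TabE8a.tab.st i s) (TabE8a.tab.st i u) = inv7 s u := by
  show Fin.ofNat 5 (ipN (TabE8a.tab.st i s : Fin 240) (TabE8a.tab.st i u : Fin 240)) = Fin.ofNat 5 (ipN s u)
  rw [val7, val7, ip_st i s.2 u.2]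

/-! ### Node `6` -/

/-- the first of the pair -/
noncomputable def pa (s : ℕ) : ℕ := Nat.land (digF 16 E6 s) 255

/-- the second of the pair -/
noncomputable def pb (s : ℕ) : ℕ := Nat.shiftRight (digF 16 E6 s) 8

/-- the class from the four classes -/
noncomputable def gt (a b c d : ℕ) : ℕ :=
  digF 5 GT (Nat.add (Nat.add a (Nat.mul 8 b)) (Nat.add (Nat.mul 64 c) (Nat.mul 512 d)))

theorem T6N_eq (s u : ℕ) : T6N s u =
    gt (ipN (pa s) (pa u)) (ipN (pa s) (pb u)) (ipN (pb s) (pa u)) (ipN (pb s) (pb u)) := by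
  unfold T6N
  simp only [force_eq]
  rfl

theorem gt_symm' : (allN 8 fun a => allN 8 fun b => allN 8 fun c => allN 8 fun d =>
    and (Nat.beq (gt a b c d) (gt b a d c)) (Nat.beq (gt a b c d) (gt c d a b))) = true := by decide +kernel

theorem gt_symm {a b c d : ℕ} (ha : a < 8) (hb : b < 8) (hc : c < 8) (hd : d < 8) :
    gt a b c d = gt b a d c ∧ gt a b c d = gt c d a b := by
  have h1 := allN_spec (allN_spec (allN_spec (allN_spec gt_symm' a ha) b hb) c hc) d hd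
  rw [Bool.and_eq_true] at h1
  exact ⟨Nat.eq_of_beq_eq_true h1.1, Nat.eq_of_beq_eq_true h1.2⟩

theorem ip_lt (a b : ℕ) : ipN a b < 8 := by
  unfold ipN
  rw [digF_eq]
  show Nat.land _ (2 ^ 3 - 1) < 8
  exact lt_of_le_of_lt Nat.and_le_right (by norm_num)

theorem dig_dig (w V k : ℕ) {i : ℕ} (hi : i < 8) : dig w (dig (8 * w) V k) i = dig w V (8 * k + i) := by
  refine Nat.eq_of_testBit_eq fun j => ?_
  rw [testBit_dig, testBit_dig, testBit_dig]
  by_cases hj : j < w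
  · rw [decide_eq_true (show w * i + j < 8 * w by nlinarith), Bool.and_true,
      show 8 * w * k + (w * i + j) = w * (8 * k + i) + j by ring]
  · rw [decide_eq_false hj, Bool.and_false, Bool.and_false]

/-- the test of the pairs -/
noncomputable def c6 (c : ℕ) : Bool := allN 840 fun t => force (fun s =>
  force (fun a => force (fun b => and (and (Nat.ble a 239) (Nat.ble b 239)) (force (fun r => force (fun x => force (fun y =>
    allN 8 fun i => force (fun e => force (fun p => force (fun q =>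
      or (Nat.beq e (Nat.add p (Nat.shiftLeft q 8))) (Nat.beq e (Nat.add q (Nat.shiftLeft p 8)))) (dig 10 y i)) (dig 10 x i))
        (digF 16 E6 (dig TabE8c.B.w r i))) (dig 80 TabE8a.enc.S b)) (dig 80 TabE8a.enc.S a))
      (digF (8 * TabE8c.B.w) TabE8c.B.S s))) (pb s)) (pa s)) (Nat.add (Nat.mul 840 c) t)

theorem c60 : c6 0 = true := by decide +kernel
theorem c61 : c6 1 = true := by decide +kernel
theorem c62 : c6 2 = true := by decide +kernel
theorem c63 : c6 3 = true := by decide +kernel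
theorem c64 : c6 4 = true := by decide +kernel
theorem c65 : c6 5 = true := by decide +kernel
theorem c66 : c6 6 = true := by decide +kernel
theorem c67 : c6 7 = true := by decide +kernel

theorem c6_all : ∀ i : Fin 8, c6 i = true
  | 0 => c60
  | 1 => c61
  | 2 => c62
  | 3 => c63
  | 4 => c64
  | 5 => c65
  | 6 => c66
  | 7 => c67

theorem pa_pb {s p q : ℕ} (hp : p < 240) (h : digF 16 E6 s = p + q <<< 8) : pa s = p ∧ pb s = q := by
  rw [pa, pb, h]
  refine ⟨(Nat.and_two_pow_sub_one_eq_mod _ 8).trans ?_, (Nat.shiftRight_eq_div_pow _ 8).trans ?_⟩ <;>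
    rw [Nat.shiftLeft_eq] <;> omega

theorem pair_st (i : Fin 8) {s : ℕ} (hs : s < 6720) : (pa s < 240 ∧ pb s < 240) ∧
    ((pa (TabE8c.B.stN i s) = s7 i (pa s) ∧ pb (TabE8c.B.stN i s) = s7 i (pb s)) ∨
      (pa (TabE8c.B.stN i s) = s7 i (pb s) ∧ pb (TabE8c.B.stN i s) = s7 i (pa s))) := by
  have h1 := allN_spec (c6_all ⟨s / 840, by omega⟩) (s % 840) (Nat.mod_lt _ (by decide))
  rw [force_eq, show Nat.add (Nat.mul 840 (s / 840)) (s % 840) = s from Nat.div_add_mod s 840] at h1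
  simp only [force_eq, Bool.and_eq_true] at h1
  obtain ⟨⟨h2, h3⟩, h4⟩ := h1
  have h5 := allN_spec h4 i i.2
  have h6 := Nat.lt_succ_of_le (Nat.le_of_ble_eq_true h2)
  have h7 := Nat.lt_succ_of_le (Nat.le_of_ble_eq_true h3)
  have h8 : ∀ a, dig 10 (dig 80 TabE8a.enc.S a) i = s7 i a := fun a => dig_dig 10 _ a i.2
  have h9 : dig TabE8c.B.w (digF (8 * TabE8c.B.w) TabE8c.B.S s) i = TabE8c.B.stN i s := by
    rw [digF_eq]
    exact dig_dig _ _ s i.2
  rw [h8, h8, h9, Bool.or_eq_true] at h5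
  exact ⟨⟨h6, h7⟩, h5.imp (fun h => pa_pb (lt7 i.2 h6) (Nat.eq_of_beq_eq_true h)) fun h =>
    pa_pb (lt7 i.2 h7) (Nat.eq_of_beq_eq_true h)⟩

theorem T6N_st (i : Fin 8) {s u : ℕ} (hs : s < 6720) (hu : u < 6720) :
    T6N (TabE8c.B.stN i s) (TabE8c.B.stN i u) = T6N s u := by
  obtain ⟨⟨ha, hb⟩, h1⟩ := pair_st i hs
  obtain ⟨⟨hc, hd⟩, h2⟩ := pair_st i hu
  rw [T6N_eq, T6N_eq]
  have g1 := (gt_symm (ip_lt (pa s) (pa u)) (ip_lt (pa s) (pb u)) (ip_lt (pb s) (pa u)) (ip_lt (pb s) (pb u))).1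
  have g2 := (gt_symm (ip_lt (pa s) (pa u)) (ip_lt (pa s) (pb u)) (ip_lt (pb s) (pa u)) (ip_lt (pb s) (pb u))).2
  have g3 := (gt_symm (ip_lt (pa s) (pb u)) (ip_lt (pa s) (pa u)) (ip_lt (pb s) (pb u)) (ip_lt (pb s) (pa u))).2
  rcases h1 with ⟨e1, e2⟩ | ⟨e1, e2⟩ <;> rcases h2 with ⟨e3, e4⟩ | ⟨e3, e4⟩ <;>
    rw [e1, e2, e3, e4, ip_st i ha hc, ip_st i ha hd, ip_st i hb hc, ip_st i hb hd]
  · exact g1.symm
  · exact g2.symm
  · exact (g1.trans g3).symm

theorem o6 : (allN 6720 fun u => Nat.beq (T6N 4060 u) (clf 8 (entF TabE8c.B u))) = true := by decide +kernel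

theorem inv6_o (u : Fin 6720) : inv6 TabE8c.data.t.o u = TabE8c.data.t.cls u := by
  have h1 : T6N 4060 u = clf 8 (entF TabE8c.B u) := Nat.eq_of_beq_eq_true (allN_spec o6 u u.2)
  rw [entF_eq] at h1
  have h2 : ((Fin.ofNat 6720 TabE8c.B.o : Fin 6720) : ℕ) = 4060 := by decide +kernel
  show Fin.ofNat 26 (T6N (Fin.ofNat 6720 TabE8c.B.o : Fin 6720) u) = Fin.ofNat 26 (clf 8 (TabE8c.B.ent u))
  rw [h2, h1]

/-- **The class of a pair at node `6` is invariant.** -/
theorem inv6_st (i : Fin 8) (s u : Fin 6720) :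
    inv6 (TabE8c.data.t.st i s) (TabE8c.data.t.st i u) = inv6 s u := by
  show Fin.ofNat 26 (T6N (TabE8c.B.st i s : Fin 6720) (TabE8c.B.st i u : Fin 6720)) = Fin.ofNat 26 (T6N s u)
  rw [TabE8c.okB.st_val, TabE8c.okB.st_val, T6N_st i s.2 u.2]

end Cfsg.Agent.H594.LB.Inv
end

-- part: H739/PQ/E8L/Fun
section
/-!
# Functions of the state (helper739, for S4612)
-/

set_option autoImplicit false
set_option linter.unusedSectionVars false

namespace Cfsg.Agent.H739.PQ.E8L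

open Cfsg Cfsg.Agent.H967.Sph
open CoxeterSystem Cfsg.Agent.ChevalleyStructure.CoxeterGeom Cfsg.Agent.Tits.Roots Cfsg.Agent.Tits.Core
  Cfsg.Agent.Tits.Exchange Cfsg.Agent.Nodes.Reps Cfsg.Agent.Nodes.BNOf Cfsg.Agent.Nodes.Bruhat
  Cfsg.Agent.Nodes.LeviDec

variable {I W Y : Type*} [Fintype I] [DecidableEq I] [Group W] [Finite W] [Group Y] {M : CoxeterMatrix I}
  {cs : CoxeterSystem M W} {A : I → I → ℤ} {h : IsCartan M A} {p : ℕ} {T : Subgroup Y} {n : I → Y}
  {X : (I → ℤ) → Subgroup Y} (R : RGD cs h p T n X) (hG : GG cs h T X = ⊤) {j : I} {N m : ℕ} (t : Tab A j N m)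

include hG in
/-- functions invariant under the parabolic subgroup on the left and `B` on the right are functions of the state -/
theorem exists_state_fun (F : Y → ℚ) (hl : ∀ y ∈ PJ cs h T X {i | i ≠ j}, ∀ g, F (y * g) = F g)
    (hr : ∀ y ∈ RGD.B cs h T X, ∀ g, F (g * y) = F g) :
    ∃ ψ : Fin N → ℚ, (∀ g, F g = ψ (stY R hG t g)) ∧ ∀ w k, Rp cs R.nsys w k → ψ (t.sw cs h w) = F k := by
  choose k hk using fun w : W => exists_rp cs R.nsys w
  choose r hr' using fun s : Fin N => t.exists_sw cs h s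
  have hB : ∀ y ∈ RGD.B cs h T X, ∀ g, F (y * g) = F g := fun y hy g => hl y (B_le_PJ hy) g
  have h1 : ∀ (w : W) (g : Y), Cell R.nsys cs h X w g → F g = F (k w) := by
    rintro w g ⟨b₁, hb₁, l, hl', b₂, hb₂, rfl⟩
    rw [hr _ hb₂, hB _ hb₁]
    have h2 : l = k w * ((k w)⁻¹ * l) := by group
    rw [h2, hr _ (RGD.T_le_B ((hk w).unique hl'))]
  have h2 : ∀ w, F (k w) = F (k (r (t.sw cs h w))) := by
    intro w
    have h3 := t.mem_WJ_of_sw cs h (hr' (t.sw cs h w))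
    have h4 : w = w * (r (t.sw cs h w))⁻¹ * r (t.sw cs h w) := by group
    have h5 : Rp cs R.nsys w (k (w * (r (t.sw cs h w))⁻¹) * k (r (t.sw cs h w))) := by
      have h6 := (hk (w * (r (t.sw cs h w))⁻¹)).mul (hk (r (t.sw cs h w)))
      rwa [← h4] at h6
    rw [← h1 w _ (cell_of_rp h5)]
    exact hl _ (LJ_le_PJ (rp_mem_LJ R h3 (hk _))) _
  refine ⟨fun s => F (k (r s)), fun g => ?_, fun w l hw => ?_⟩
  · rw [h1 _ g (cell_wOf R hG g), h2]
    rfl
  · show F (k (r (t.sw cs h w))) = F l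
    rw [← h2, ← h1 w l (cell_of_rp hw)]

include hG R in
/-- invariance under `n i` on the right -/
theorem st_eq_of_right {F : Y → ℚ} {ψ : Fin N → ℚ} (hψ : ∀ w k, Rp cs R.nsys w k → ψ (t.sw cs h w) = F k) {i : I}
    (hi : ∀ g, F (g * n i) = F g) (s : Fin N) : ψ (t.st i s) = ψ s := by
  obtain ⟨w, rfl⟩ := t.exists_sw cs h s
  obtain ⟨k, hk⟩ := exists_rp cs R.nsys w
  rw [← t.sw_mul_simple, hψ _ _ (hk.mul (rp_simple cs R.nsys i)), hi, hψ _ _ hk]

/-- a function of the state which is constant under the reflections in `J` is invariant under `P_J` -/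
theorem mul_right_of_st {α : Type*} {φ : Fin N → α} {J : Set I} (hφ : ∀ i ∈ J, ∀ s, φ (t.st i s) = φ s) {y : Y}
    (hy : y ∈ PJ cs h T X J) (g : Y) : φ (stY R hG t (g * y)) = φ (stY R hG t g) := by
  have key : ∀ (v : W), v ∈ WJ cs J → ∀ (k : Y), Rp cs R.nsys v k → ∀ g,
      φ (stY R hG t (g * k)) = φ (stY R hG t g) := by
    intro v hv
    obtain ⟨ω, hω, rfl⟩ := exists_word_of_mem_WJ cs hv
    clear hv
    induction ω with
    | nil =>
      intro k hk g
      rw [wordProd_nil] at hk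
      rw [stY_mul_right_B R hG t g (RGD.T_le_B hk.mem_of_one)]
    | cons i ω ih =>
      intro k hk g
      rw [wordProd_cons] at hk
      have hi : i ∈ J := hω i (by simp)
      have h1 : Rp cs R.nsys (cs.wordProd ω) ((n i)⁻¹ * k) := by
        have := (rp_simple cs R.nsys i).inv.mul hk
        rwa [inv_simple, simple_mul_simple_cancel_left] at this
      have h2 := ih (fun l hl => hω l (by simp [hl])) _ h1 (g * n i)
      have h3 : g * n i * ((n i)⁻¹ * k) = g * k := by group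
      rw [← h3, h2]
      rcases nonneg_or_nonpos cs h (wOf R hG g) i with h0 | h0
      · have h4 := stY_pos R hG t h0 (one_mem (X (sr i)))
        rw [mul_one] at h4
        rw [h4, hφ i hi]
      · obtain ⟨x₀, hx₀, h4, h5⟩ := stY_neg R hG t h0
        by_cases h6 : (1 : Y) = x₀
        · rw [← h6, mul_one] at h4
          rw [h4, hφ i hi]
        · have h7 := h5 1 (one_mem _) h6
          rw [mul_one] at h7
          rw [h7]
  obtain ⟨v, hv, b₁, hb₁, k, hk, b₂, hb₂, rfl⟩ := (mem_PJ_iff_cell R).1 hy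
  rw [← mul_assoc, stY_mul_right_B R hG t _ hb₂, ← mul_assoc, key v hv k hk, stY_mul_right_B R hG t _ hb₁]

end Cfsg.Agent.H739.PQ.E8L
end

-- part: H632/LB/Ker
section
/-!
# The multiplicities `⟨χ, 1_{P_J}⟩` : the kernel (helper632, for S4879)

* `kerfun` : the averages `∑_{b ∈ B} f (g b u⁻¹)` are given by a function `Ψ` of the two states, with the recursion of
  the operators of the table;
* `avgJ` : the average over `P_J` of a function of the state;
* `mu_eq` : `⟨χ, 1_{P_J}⟩ = FF`.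
-/

set_option autoImplicit false
set_option linter.unusedSectionVars false

namespace Cfsg.Agent.H632.LB

open Cfsg.Agent.H967.Sph Cfsg.Agent.H996.PQ Cfsg.Agent.H739.PQ.E8L
open Cfsg.Agent.H439.CC (mu)
open CoxeterSystem Cfsg.Agent.ChevalleyStructure.CoxeterGeom Cfsg.Agent.Tits.Roots Cfsg.Agent.Tits.Core
  Cfsg.Agent.Tits.Exchange Cfsg.Agent.Nodes.Reps Cfsg.Agent.Nodes.BNOf Cfsg.Agent.Nodes.Bruhat
  Cfsg.Agent.Nodes.LeviDec

universe u

variable {I W : Type*} {Y : Type u} [Fintype I] [DecidableEq I] [Group W] [Finite W] [Group Y] [Finite Y]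
    {M : CoxeterMatrix I} {cs : CoxeterSystem M W} {A : I → I → ℤ} {h : IsCartan M A} {p : ℕ} {T : Subgroup Y}
    {n : I → Y} {X : (I → ℤ) → Subgroup Y} (R : RGD cs h p T n X) (hG : GG cs h T X = ⊤)
    {j : I} {N m : ℕ} (t : Tab A j N m)

/-- every state is the state of an element -/
theorem exists_stY (s : Fin N) : ∃ g, stY R hG t g = s := by
  obtain ⟨w, hw⟩ := t.exists_sw cs h s
  obtain ⟨k, hk⟩ := exists_rp cs R.nsys w
  exact ⟨k, by rw [stY_eq R hG t (cell_of_rp hk), hw]⟩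

theorem stY_one : stY R hG t 1 = t.o := (stY_eq_o_iff R hG t).2 (one_mem _)

/-- the class function on the group -/
noncomputable def ff (a : Fin m → ℚ) (g : Y) : ℚ := a (t.cls (stY R hG t g))

theorem ff_left (a : Fin m → ℚ) {y : Y} (hy : y ∈ PJ cs h T X {i | i ≠ j}) (g : Y) :
    ff R hG t a (y * g) = ff R hG t a g := by
  unfold ff
  rw [stY_mul_left R hG t hy]

theorem ff_right (a : Fin m → ℚ) {y : Y} (hy : y ∈ PJ cs h T X {i | i ≠ j}) (g : Y) :
    ff R hG t a (g * y) = ff R hG t a g := by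
  unfold ff
  rw [cls_mul_right R hG t hy]

section Kern

variable [Fintype (RGD.B cs h T X)]

/-- the kernel -/
noncomputable def kk (a : Fin m → ℚ) (g u : Y) : ℚ := ∑ b : RGD.B cs h T X, ff R hG t a (g * b * u⁻¹)

theorem kk_left (a : Fin m → ℚ) {y : Y} (hy : y ∈ PJ cs h T X {i | i ≠ j}) (g u : Y) :
    kk R hG t a (y * g) u = kk R hG t a g u := by
  unfold kk
  refine Finset.sum_congr rfl fun b _ => ?_
  rw [mul_assoc, mul_assoc, ff_left R hG t a hy, ← mul_assoc]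

theorem kk_right (a : Fin m → ℚ) {y : Y} (hy : y ∈ RGD.B cs h T X) (g u : Y) :
    kk R hG t a (g * y) u = kk R hG t a g u := by
  unfold kk
  refine Fintype.sum_equiv (Equiv.mulLeft (⟨y, hy⟩ : RGD.B cs h T X)) _ _ fun b => ?_
  rw [Equiv.coe_mulLeft, Subgroup.coe_mul, ← mul_assoc]

theorem kk_left' (a : Fin m → ℚ) {y : Y} (hy : y ∈ PJ cs h T X {i | i ≠ j}) (g u : Y) :
    kk R hG t a g (y * u) = kk R hG t a g u := by
  unfold kk
  refine Finset.sum_congr rfl fun b _ => ?_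
  rw [mul_inv_rev, ← mul_assoc, ff_right R hG t a (inv_mem hy)]

theorem kk_right' (a : Fin m → ℚ) {y : Y} (hy : y ∈ RGD.B cs h T X) (g u : Y) :
    kk R hG t a g (u * y) = kk R hG t a g u := by
  unfold kk
  refine Fintype.sum_equiv (Equiv.mulRight (⟨y⁻¹, inv_mem hy⟩ : RGD.B cs h T X)) _ _ fun b => ?_
  rw [Equiv.coe_mulRight, Subgroup.coe_mul, mul_inv_rev]
  show ff R hG t a (g * b * (y⁻¹ * u⁻¹)) = ff R hG t a (g * (b * y⁻¹) * u⁻¹)
  simp only [mul_assoc]

/-- the kernel depends on the states only -/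
theorem kk_congr (a : Fin m → ℚ) {g g' u u' : Y} (h1 : stY R hG t g = stY R hG t g')
    (h2 : stY R hG t u = stY R hG t u') : kk R hG t a g u = kk R hG t a g' u' := by
  obtain ⟨ψ, hψ, -⟩ := exists_state_fun R hG t (fun g => kk R hG t a g u) (fun y hy g => kk_left R hG t a hy g u)
    (fun y hy g => kk_right R hG t a hy g u)
  obtain ⟨φ, hφ, -⟩ := exists_state_fun R hG t (fun u => kk R hG t a g' u) (fun y hy u => kk_left' R hG t a hy g' u)
    (fun y hy u => kk_right' R hG t a hy g' u)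
  have h3 : kk R hG t a g u = ψ (stY R hG t g) := hψ g
  have h4 : kk R hG t a g' u = ψ (stY R hG t g') := hψ g'
  have h5 : kk R hG t a g' u = φ (stY R hG t u) := hφ u
  have h6 : kk R hG t a g' u' = φ (stY R hG t u') := hφ u'
  rw [h3, h1, ← h4, h5, h2, ← h6]

include R in
/-- the square of `n i` is in `T` -/
theorem n_sq (i : I) : n i * n i ∈ T := by
  have h1 := (rp_simple cs R.nsys i).mul (rp_simple cs R.nsys i)
  rw [simple_mul_simple_self] at h1
  exact h1.mem_of_one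

theorem X_le_B' (i : I) : X (sr i) ≤ RGD.B cs h T X := RGD.X_le_B (isRoot_sr cs h i) (sr_nonneg i)

variable {x : ℕ} (hq : ∀ i, Nat.card (X (sr i)) = x)

include hq in
/-- **the operators on the two variables of the kernel agree** -/
theorem kk_symm (a : Fin m → ℚ) (i : I) (g u : Y) :
    opT X n i (fun g => kk R hG t a g u) g = opT X n i (fun u => kk R hG t a g u) u := by
  classical
  have := Fintype.ofFinite (X (sr i))
  have hB : (Fintype.card (RGD.B cs h T X) : ℚ) ≠ 0 := Nat.cast_ne_zero.2 Fintype.card_ne_zero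
  have hcard : (Fintype.card (X (sr i)) : ℚ) = x := by rw [← hq i, Nat.card_eq_fintype_card]
  -- general: a right `B`-invariant function
  have key : ∀ F : Y → ℚ, (∀ y ∈ RGD.B cs h T X, ∀ g, F (g * y) = F g) →
      (∀ y ∈ RGD.B cs h T X, ∀ g, opT X n i F (g * y) = opT X n i F g) → ∀ g,
      (Fintype.card (RGD.B cs h T X) : ℚ) * opT X n i F g = x * ∑ b : RGD.B cs h T X, F (g * b * n i) := by
    intro F hF hT g
    have h1 : ∑ b : RGD.B cs h T X, opT X n i F (g * b) = (Fintype.card (RGD.B cs h T X) : ℚ) * opT X n i F g := by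
      rw [Finset.sum_congr rfl fun (b : RGD.B cs h T X) _ => hT b b.2 g, Finset.sum_const, Finset.card_univ, nsmul_eq_mul]
    have h2 : ∀ b : RGD.B cs h T X, opT X n i F (g * b) = ∑ z : X (sr i), F (g * b * z * n i) := fun b => by
      rw [opT_apply, finsum_eq_sum_of_fintype]
    rw [← h1, Finset.sum_congr rfl fun b _ => h2 b, Finset.sum_comm]
    have h3 : ∀ z : X (sr i), ∑ b : RGD.B cs h T X, F (g * b * z * n i) = ∑ b : RGD.B cs h T X, F (g * b * n i) := by
      intro z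
      refine Fintype.sum_equiv (Equiv.mulRight (⟨z, X_le_B' i z.2⟩ : RGD.B cs h T X)) _ _ fun b => ?_
      rw [Equiv.coe_mulRight, Subgroup.coe_mul]
      simp only [mul_assoc]
    rw [Finset.sum_congr rfl fun z _ => h3 z, Finset.sum_const, Finset.card_univ, nsmul_eq_mul, hcard]
  -- the functions of the state
  obtain ⟨ψ, hψ, -⟩ := exists_state_fun R hG t (fun g => kk R hG t a g u) (fun y hy g => kk_left R hG t a hy g u)
    (fun y hy g => kk_right R hG t a hy g u)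
  obtain ⟨φ, hφ, -⟩ := exists_state_fun R hG t (fun u => kk R hG t a g u) (fun y hy u => kk_left' R hG t a hy g u)
    (fun y hy u => kk_right' R hG t a hy g u)
  have hψ' : (fun g => kk R hG t a g u) = fun g => ψ (stY R hG t g) := funext hψ
  have hφ' : (fun u => kk R hG t a g u) = fun u => φ (stY R hG t u) := funext hφ
  have h1 := key (fun g => kk R hG t a g u) (fun y hy g => kk_right R hG t a hy g u) (fun y hy g' => by
    rw [hψ', opT_stY R hG t (fun _ => x) hq i ψ]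
    beta_reduce
    rw [stY_mul_right_B R hG t g' hy]) g
  have h2 := key (fun u => kk R hG t a g u) (fun y hy u => kk_right' R hG t a hy g u) (fun y hy g' => by
    rw [hφ', opT_stY R hG t (fun _ => x) hq i φ]
    beta_reduce
    rw [stY_mul_right_B R hG t g' hy]) u
  refine mul_left_cancel₀ hB ?_
  rw [h1, h2]
  congr 1
  -- the double sums
  have h3 : ∀ b : RGD.B cs h T X, kk R hG t a (g * b * n i) u =
      ∑ b' : RGD.B cs h T X, ff R hG t a (g * b * n i * b' * u⁻¹) := fun _ => rfl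
  have h4 : ∀ b : RGD.B cs h T X, kk R hG t a g (u * b * n i) =
      ∑ b' : RGD.B cs h T X, ff R hG t a (g * b' * (u * b * n i)⁻¹) := fun _ => rfl
  beta_reduce
  rw [Finset.sum_congr rfl fun b _ => h3 b, Finset.sum_congr rfl fun b _ => h4 b, Finset.sum_comm]
  conv_rhs => rw [Finset.sum_comm]
  rw [Finset.sum_comm]
  refine Finset.sum_congr rfl fun b _ => ?_
  -- `b' ↦ (n i * n i)⁻¹ * b'⁻¹` type substitution
  refine Fintype.sum_equiv (Equiv.trans (Equiv.mulLeft (⟨n i * n i, RGD.T_le_B (n_sq R i)⟩ : RGD.B cs h T X))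
    (Equiv.inv _)) _ _ fun b' => ?_
  rw [Equiv.trans_apply, Equiv.coe_mulLeft, Equiv.inv_apply, Subgroup.coe_inv, Subgroup.coe_mul]
  congr 1
  show g * b * n i * b' * u⁻¹ = g * b * (u * (n i * n i * b')⁻¹ * n i)⁻¹
  group

include hq in
/-- **the kernel as a function of the two states**, with the recursion of the table -/
theorem exists_Psi (a : Fin m → ℚ) (hx : 1 ≤ x) : ∃ Ψ : Fin N → Fin N → ℚ,
    (∀ g u, kk R hG t a g u = (Fintype.card (RGD.B cs h T X) : ℚ) * Ψ (stY R hG t u) (stY R hG t g)) ∧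
    (∀ s, Ψ t.o s = a (t.cls s)) ∧ ∀ i s, Ψ (t.st i s) = stp t x i s (Ψ s) := by
  classical
  have hB : (Fintype.card (RGD.B cs h T X) : ℚ) ≠ 0 := Nat.cast_ne_zero.2 Fintype.card_ne_zero
  have hx0 : (x : ℚ) ≠ 0 := Nat.cast_ne_zero.2 (by omega)
  choose r hr using fun s : Fin N => exists_stY R hG t s
  have h1 : ∀ g u, kk R hG t a g u = (Fintype.card (RGD.B cs h T X) : ℚ) *
      ((Fintype.card (RGD.B cs h T X) : ℚ)⁻¹ * kk R hG t a (r (stY R hG t g)) (r (stY R hG t u))) := by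
    intro g u
    rw [mul_inv_cancel_left₀ hB]
    exact kk_congr R hG t a (hr _).symm (hr _).symm
  obtain ⟨Ψ, hΨ⟩ : ∃ Ψ : Fin N → Fin N → ℚ, Ψ = fun s s' =>
      (Fintype.card (RGD.B cs h T X) : ℚ)⁻¹ * kk R hG t a (r s') (r s) := ⟨_, rfl⟩
  have h2 : ∀ g u, kk R hG t a g u = (Fintype.card (RGD.B cs h T X) : ℚ) * Ψ (stY R hG t u) (stY R hG t g) := by
    rw [hΨ]
    exact h1
  refine ⟨Ψ, h2, fun s => ?_, fun i s => ?_⟩
  · have h3 := h2 (r s) 1
    rw [stY_one, hr] at h3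
    have h4 : kk R hG t a (r s) 1 = (Fintype.card (RGD.B cs h T X) : ℚ) * a (t.cls s) := by
      unfold kk
      have h5 : ∀ b : RGD.B cs h T X, ff R hG t a (r s * b * 1⁻¹) = a (t.cls s) := fun b => by
        rw [inv_one, mul_one, ff_right R hG t a (B_le_PJ b.2)]
        unfold ff
        rw [hr]
      rw [Finset.sum_congr rfl fun b _ => h5 b, Finset.sum_const, Finset.card_univ, nsmul_eq_mul]
    rw [h4] at h3
    exact (mul_left_cancel₀ hB h3).symm
  · funext s'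
    have h3 := kk_symm R hG t hq a i (r s') (r s)
    have h4 : (fun g => kk R hG t a g (r s)) = fun g =>
        (fun v => (Fintype.card (RGD.B cs h T X) : ℚ) * Ψ s v) (stY R hG t g) := by
      funext g
      rw [h2, hr]
    have h5 : (fun u => kk R hG t a (r s') u) = fun u =>
        (fun v => (Fintype.card (RGD.B cs h T X) : ℚ) * Ψ v s') (stY R hG t u) := by
      funext u
      rw [h2, hr]
    rw [h4, h5] at h3
    have h3' := h3
    have e1 := congrFun (opT_stY R hG t (fun _ => x) hq i fun v => (Fintype.card (RGD.B cs h T X) : ℚ) * Ψ s v) (r s')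
    have e2 := congrFun (opT_stY R hG t (fun _ => x) hq i fun v => (Fintype.card (RGD.B cs h T X) : ℚ) * Ψ v s') (r s)
    beta_reduce at e1 e2
    rw [hr] at e1 e2
    have h3 := e1.symm.trans (h3'.trans e2)
    unfold stp
    have h6 : t.tau (fun _ => x) i (fun v => (Fintype.card (RGD.B cs h T X) : ℚ) * Ψ s v) s' =
        (Fintype.card (RGD.B cs h T X) : ℚ) * t.tau (fun _ => x) i (Ψ s) s' := by
      unfold Tab.tau
      split_ifs <;> ring
    have h7 : t.tau (fun _ => x) i (fun v => (Fintype.card (RGD.B cs h T X) : ℚ) * Ψ v s') s =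
        (Fintype.card (RGD.B cs h T X) : ℚ) * t.tau (fun _ => x) i (fun v => Ψ v s') s := by
      unfold Tab.tau
      split_ifs <;> ring
    rw [h6, h7] at h3
    have h8 := mul_left_cancel₀ hB h3
    split_ifs with h9
    · rw [h8]
      unfold Tab.tau
      rw [if_pos h9]
      ring
    · rw [h8]
      unfold Tab.tau
      rw [if_neg h9, inv_mul_cancel_left₀ hx0]

end Kern

/-- the kernel is `psi` -/
theorem eq_psi {x : ℕ} (a : Fin m → ℚ) {Ψ : Fin N → Fin N → ℚ} (h0 : ∀ s, Ψ t.o s = a (t.cls s))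
    (h1 : ∀ i s, Ψ (t.st i s) = stp t x i s (Ψ s)) (s : Fin N) : Ψ s = psi t x a s := by
  have key : ∀ w : List I, Ψ (sR t w) = psiR t x a w := by
    intro w
    induction w with
    | nil => exact funext h0
    | cons i w ih => rw [sR, h1, ih, psiR]
  have h2 := key (t.path s).reverse
  rw [sR_path] at h2
  exact h2

/-- **the average over `P_J` of a function of the state** -/
theorem avgJ [Fintype Y] (J : Set I) [Fintype (PJ cs h T X J)] (ψ : Fin N → ℚ) : ∃ φ : Fin N → ℚ,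
    (∀ u, ∑ z : PJ cs h T X J, ψ (stY R hG t (u * z)) = φ (stY R hG t u)) ∧
    (∀ i ∈ J, ∀ s, φ (t.st i s) = φ s) ∧ ∀ κ : Fin N → ℚ, (∀ i ∈ J, ∀ s, κ (t.st i s) = κ s) →
      ∑ s, κ s * φ s * cnt R hG t s = Fintype.card (PJ cs h T X J) * ∑ s, κ s * ψ s * cnt R hG t s := by
  classical
  obtain ⟨F, hF⟩ : ∃ F : Y → ℚ, F = fun u => ∑ z : PJ cs h T X J, ψ (stY R hG t (u * z)) := ⟨_, rfl⟩
  have hr : ∀ y ∈ PJ cs h T X J, ∀ g, F (g * y) = F g := by
    intro y hy g
    rw [hF]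
    refine Fintype.sum_equiv (Equiv.mulLeft (⟨y, hy⟩ : PJ cs h T X J)) _ _ fun z => ?_
    rw [Equiv.coe_mulLeft, Subgroup.coe_mul, ← mul_assoc]
  obtain ⟨φ, h1, h2⟩ := exists_state_fun R hG t F (fun y hy g => by
    rw [hF]
    refine Finset.sum_congr rfl fun z _ => ?_
    rw [mul_assoc, stY_mul_left R hG t hy]) (fun y hy g => hr y (B_le_PJ hy) g)
  refine ⟨φ, fun u => ?_, fun i hi s => ?_, fun κ hκ => ?_⟩
  · rw [← h1, hF]
  · refine st_eq_of_right R hG t h2 (fun g => ?_) s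
    exact hr _ (LJ_le_PJ (rp_mem_LJ R (simple_mem_WJ cs hi) (rp_simple cs R.nsys i))) g
  · rw [← sum_stY R hG t (fun s => κ s * φ s), ← sum_stY R hG t (fun s => κ s * ψ s)]
    have h3 : ∀ u, κ (stY R hG t u) * φ (stY R hG t u) =
        ∑ z : PJ cs h T X J, κ (stY R hG t (u * z)) * ψ (stY R hG t (u * z)) := by
      intro u
      rw [← h1, hF]
      beta_reduce
      rw [Finset.mul_sum]
      refine Finset.sum_congr rfl fun z _ => ?_
      rw [mul_right_of_st R hG t hκ z.2]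
    rw [Finset.sum_congr rfl fun u _ => h3 u, Finset.sum_comm]
    have h4 : ∀ z : PJ cs h T X J, ∑ u : Y, κ (stY R hG t (u * z)) * ψ (stY R hG t (u * z)) =
        ∑ u : Y, κ (stY R hG t u) * ψ (stY R hG t u) := fun z =>
      Equiv.sum_comp (Equiv.mulRight (z : Y)) fun u => κ (stY R hG t u) * ψ (stY R hG t u)
    rw [Finset.sum_congr rfl fun z _ => h4 z, Finset.sum_const, Finset.card_univ, nsmul_eq_mul]

theorem Rel.refl (J : Set I) (s : Fin N) : Rel t J s s := ⟨[], by simp, rfl⟩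

theorem Rel.inv_of {α : Type*} {J : Set I} {φ : Fin N → α} (hφ : ∀ i ∈ J, ∀ s, φ (t.st i s) = φ s) {s u : Fin N}
    (h1 : Rel t J s u) : φ u = φ s := by
  obtain ⟨w, hw, rfl⟩ := h1
  induction w generalizing s with
  | nil => rfl
  | cons i w ih => rw [List.foldl_cons, ih (fun k hk => hw k (by simp [hk])), hφ i (hw i (by simp))]

theorem Rel.step {J : Set I} {i : I} (hi : i ∈ J) (hst : ∀ s, t.st i (t.st i s) = s) (s u : Fin N) :
    Rel t J s (t.st i u) ↔ Rel t J s u := by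
  have h1 : ∀ u, Rel t J s u → Rel t J s (t.st i u) := by
    rintro u ⟨w, hw, rfl⟩
    refine ⟨w ++ [i], fun k hk => ?_, by rw [List.foldl_append]; rfl⟩
    rcases List.mem_append.1 hk with h2 | h2
    · exact hw k h2
    · rw [List.mem_singleton.1 h2]
      exact hi
  refine ⟨fun h2 => ?_, h1 u⟩
  have h3 := h1 _ h2
  rwa [hst] at h3

variable {x : ℕ}

open Classical in
/-- **The multiplicity of `χ` in `1_{P_J}`.** -/
theorem mu_eq (hx : 1 ≤ x) (hq : ∀ i, Nat.card (X (sr i)) = x) (wl : Fin N → ℕ) (hwo : wl t.o = 0)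
    (hws : ∀ i s, 0 < t.vec s i → wl (t.st i s) = wl s + 1) {χ : Y → ℂ} {d : ℕ} {a : Fin m → ℚ}
    (H : HasVal R hG t χ d a) (hd : (d : ℚ) * ∑ s, (x : ℚ) ^ wl s * a (t.cls s) ^ 2 = ∑ s, (x : ℚ) ^ wl s)
    (J : Set I) : mu (PJ cs h T X J) χ = ((FF t x wl a J : ℚ) : ℂ) := by
  have := Fintype.ofFinite Y
  have := Fintype.ofFinite (RGD.B cs h T X)
  have := Fintype.ofFinite (PJ cs h T X J)
  have hx0 : (0 : ℚ) < x := Nat.cast_pos.2 (by omega)
  have hB : (Fintype.card (RGD.B cs h T X) : ℚ) ≠ 0 := Nat.cast_ne_zero.2 Fintype.card_ne_zero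
  have hP : (Fintype.card (PJ cs h T X J) : ℚ) ≠ 0 := Nat.cast_ne_zero.2 Fintype.card_ne_zero
  obtain ⟨Ψ, hΨ1, hΨ2, hΨ3⟩ := exists_Psi R hG t hq a hx
  have hΨ : ∀ s, Ψ s = psi t x a s := eq_psi t a hΨ2 hΨ3
  choose φ hφ1 hφ2 hφ3 using fun s => avgJ R hG t J (psi t x a s)
  -- the numbers of elements
  have hcnt : ∀ s, cnt R hG t s = (x : ℚ) ^ wl s * cnt R hG t t.o := by
    intro s
    have h1 := cnt_eq R hG t (fun _ => x) hq (fun s => x ^ wl s) (by rw [hwo, pow_zero])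
      (fun i s h2 => by rw [hws i s h2, pow_succ, mul_comm]) s
    rw [h1]
    push_cast
    rfl
  have hc0 : cnt R hG t t.o ≠ 0 := by
    rw [cnt_o]
    exact Nat.cast_ne_zero.2 Nat.card_pos.ne'
  -- the average at `s`
  have hE : ∀ s, φ s s = Fintype.card (PJ cs h T X J) * EE t x wl a J s := by
    intro s
    have h1 := hφ3 s (fun u => if Rel t J s u then 1 else 0) (fun i hi u => by
      beta_reduce
      rw [if_congr (Rel.step t hi (fun v => Tab.st_st cs h t i v) s u) rfl rfl])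
    have h2 : ∀ u, (if Rel t J s u then (1 : ℚ) else 0) * φ s u * cnt R hG t u =
        φ s s * cnt R hG t t.o * if Rel t J s u then (x : ℚ) ^ wl u else 0 := by
      intro u
      split_ifs with h3
      · rw [Rel.inv_of t (hφ2 s) h3, hcnt u]
        ring
      · ring
    have h3 : ∀ u, (if Rel t J s u then (1 : ℚ) else 0) * psi t x a s u * cnt R hG t u =
        cnt R hG t t.o * if Rel t J s u then (x : ℚ) ^ wl u * psi t x a s u else 0 := by
      intro u
      split_ifs with h3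
      · rw [hcnt u]
        ring
      · ring
    rw [Finset.sum_congr rfl fun u _ => h2 u, Finset.sum_congr rfl fun u _ => h3 u, ← Finset.mul_sum,
      ← Finset.mul_sum] at h1
    have h4 : (∑ u, if Rel t J s u then (x : ℚ) ^ wl u else 0) ≠ 0 := by
      refine ne_of_gt (Finset.sum_pos' (fun u _ => ?_) ⟨s, Finset.mem_univ _, ?_⟩)
      · split_ifs
        · positivity
        · exact le_rfl
      · rw [if_pos (Rel.refl t J s)]
        positivity
    unfold EE
    rw [mul_div_assoc', eq_div_iff h4]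
    refine mul_left_cancel₀ hc0 ?_
    linear_combination h1
  -- the sum over `z ∈ P_J` for fixed `u`
  have hS : ∀ u, ∑ z : PJ cs h T X J, ff R hG t a (u * z * u⁻¹) = φ (stY R hG t u) (stY R hG t u) := by
    intro u
    have h1 : (Fintype.card (RGD.B cs h T X) : ℚ) * ∑ z : PJ cs h T X J, ff R hG t a (u * z * u⁻¹) =
        ∑ z : PJ cs h T X J, kk R hG t a (u * z) u := by
      have h2 : ∀ b : RGD.B cs h T X, ∑ z : PJ cs h T X J, ff R hG t a (u * z * b * u⁻¹) =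
          ∑ z : PJ cs h T X J, ff R hG t a (u * z * u⁻¹) := by
        intro b
        refine Fintype.sum_equiv (Equiv.mulRight (⟨b, B_le_PJ b.2⟩ : PJ cs h T X J)) _ _ fun z => ?_
        rw [Equiv.coe_mulRight, Subgroup.coe_mul]
        show ff R hG t a (u * z * b * u⁻¹) = ff R hG t a (u * (z * b) * u⁻¹)
        simp only [mul_assoc]
      unfold kk
      rw [Finset.sum_comm, Finset.sum_congr rfl fun b _ => h2 b, Finset.sum_const, Finset.card_univ, nsmul_eq_mul]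
    have h2 : ∀ z : PJ cs h T X J, kk R hG t a (u * z) u =
        (Fintype.card (RGD.B cs h T X) : ℚ) * psi t x a (stY R hG t u) (stY R hG t (u * z)) := fun z => by
      rw [hΨ1, hΨ]
    rw [Finset.sum_congr rfl fun z _ => h2 z, ← Finset.mul_sum] at h1
    rw [mul_left_cancel₀ hB h1, hφ1]
  -- the sum over `Y`
  have hY : ∑ u : Y, ∑ z : PJ cs h T X J, ff R hG t a (u * z * u⁻¹) =
      Fintype.card (PJ cs h T X J) * (cnt R hG t t.o * ∑ s, (x : ℚ) ^ wl s * EE t x wl a J s) := by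
    rw [Finset.sum_congr rfl fun u _ => hS u, sum_stY R hG t (fun s => φ s s), Finset.mul_sum, Finset.mul_sum]
    refine Finset.sum_congr rfl fun s _ => ?_
    rw [hE, hcnt s]
    ring
  have hcard : (Nat.card Y : ℚ) = cnt R hG t t.o * ∑ s, (x : ℚ) ^ wl s := by
    have h1 := sum_stY R hG t (fun _ => (1 : ℚ))
    rw [Finset.sum_const, Finset.card_univ, nsmul_eq_mul, mul_one] at h1
    rw [Nat.card_eq_fintype_card, h1, Finset.mul_sum]
    refine Finset.sum_congr rfl fun s _ => ?_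
    rw [hcnt s]
    ring
  have hYc : (Nat.card Y : ℚ) ≠ 0 := Nat.cast_ne_zero.2 Nat.card_pos.ne'
  have hA : (∑ s, (x : ℚ) ^ wl s * a (t.cls s) ^ 2) ≠ 0 := by
    intro h0
    rw [h0, mul_zero] at hd
    rw [← hd, mul_zero] at hcard
    exact hYc hcard
  -- the character
  have hχ : (Nat.card Y : ℂ) * ∑ z : PJ cs h T X J, χ z =
      d * ((∑ u : Y, ∑ z : PJ cs h T X J, ff R hG t a (u * z * u⁻¹) : ℚ) : ℂ) := by
    rw [Finset.mul_sum, Finset.sum_congr rfl fun (z : PJ cs h T X J) _ => H.val z, ← Finset.mul_sum, Finset.sum_comm]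
    push_cast
    congr 1
    refine Finset.sum_congr rfl fun z _ => ?_
    rw [finsum_eq_sum_of_fintype]
    push_cast
    refine Fintype.sum_equiv (Equiv.inv Y) _ _ fun y => ?_
    rw [Equiv.inv_apply, inv_inv]
    rfl
  rw [hY] at hχ
  unfold mu
  rw [finsum_eq_sum_of_fintype, Nat.card_eq_fintype_card]
  have hPc : (Fintype.card (PJ cs h T X J) : ℂ) ≠ 0 := Nat.cast_ne_zero.2 Fintype.card_ne_zero
  have hYc' : (Nat.card Y : ℂ) ≠ 0 := Nat.cast_ne_zero.2 Nat.card_pos.ne'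
  have h9 : (Nat.card Y : ℚ) * FF t x wl a J = d * (cnt R hG t t.o * ∑ s, (x : ℚ) ^ wl s * EE t x wl a J s) := by
    unfold FF
    rw [mul_div_assoc', div_eq_iff hA, hcard, ← hd]
    ring
  have h10 : (Nat.card Y : ℂ) * ((FF t x wl a J : ℚ) : ℂ) =
      d * ((cnt R hG t t.o * ∑ s, (x : ℚ) ^ wl s * EE t x wl a J s : ℚ) : ℂ) := by
    exact_mod_cast congrArg (fun v : ℚ => (v : ℂ)) h9
  refine mul_left_cancel₀ (mul_ne_zero hYc' hPc) ?_
  rw [mul_assoc, mul_inv_cancel_left₀ hPc, hχ]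
  push_cast at h10 ⊢
  linear_combination -(Fintype.card (PJ cs h T X J) : ℂ) * h10

end Cfsg.Agent.H632.LB
end

-- part: H632/LB/Const
section
/-!
# The multiplicities of a certificate do not depend on `x` (helper632, for S4879)

* `mu_FJ` : `⟨χ, 1_{P_J}⟩ = FJ x`;
* `Fam cs h` : for every prime `q` there is a root group datum with all `|X_i| = q`;
* `mu_const` : `⟨χ, 1_{P_J}⟩ = FJ 1`;
* `fam_split` : `Fam` for the split groups.
-/

set_option autoImplicit false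
set_option linter.unusedSectionVars false

namespace Cfsg.Agent.H632.LB

open Cfsg Cfsg.Agent.H967.Sph Cfsg.Agent.H317.PQ Cfsg.Agent.H64.Dl.Sph
  Cfsg.Agent.H996.Eight Cfsg.Agent.H996.Eight.Cert Cfsg.Agent.H996.PQ
open CoxeterSystem Cfsg.Agent.ChevalleyStructure.CoxeterGeom Cfsg.Agent.Tits.Roots Cfsg.Agent.Tits.Core
  Cfsg.Agent.Nodes.Reps Cfsg.Agent.Nodes.BNOf Cfsg.Agent.Nodes.Bruhat Cfsg.Agent.Nodes.LeviDec
open Cfsg.Agent.H439.CC (mu)
open Cfsg.Lie Cfsg.Agent.ChevalleyStructure Cfsg.Agent.ChevalleyStructure.CoxeterGeomTypes Cfsg.Agent.Nodes.RGDChev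
  Cfsg.Agent.H35.ExcIdx

universe u v

section Deg

variable {I : Type*} [Fintype I] [DecidableEq I] {A : I → I → ℤ} {j : I} {N m : ℕ} (D : Data A j N m)

/-- the degree of a certificate -/
theorem deg_eq {x : ℕ} (hx : 2 ≤ x) {C : Crt m} (hC : ok1 C (D.t.cls D.t.o) D.bb D.kk) (hD : pDvd C.den C.dn) :
    ((val C.den C.dn x : ℕ) : ℚ) *
      ∑ s, (x : ℚ) ^ D.wl s * (ev x (C.nu (D.t.cls s)) / ev x (C.nu (D.t.cls D.t.o))) ^ 2 =
      ∑ s, (x : ℚ) ^ D.wl s := by
  obtain ⟨o, ho⟩ : ∃ o, o = D.t.cls D.t.o := ⟨_, rfl⟩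
  rw [← ho] at hC ⊢
  obtain ⟨h3, h4, h5, h7, h8⟩ := hC
  have hx' : (2 : ℚ) ≤ (x : ℚ) := by exact_mod_cast hx
  have hnu := ev_pos hx' h3
  have hval := val_spec h8 hD h4 hx
  have hden : (0 : ℚ) < C.den := by exact_mod_cast h8
  have hsum : ∀ f : Fin m → ℚ, ∑ s, (x : ℚ) ^ D.wl s * f (D.t.cls s) = ∑ c, ev x (D.kk c) * f c := by
    intro f
    rw [← Finset.sum_fiberwise (s := Finset.univ) (g := fun s => D.t.cls s)]
    refine Finset.sum_congr rfl fun c _ => ?_
    rw [← ChkK.spec (x : ℚ) D.chkK c, Finset.sum_mul]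
    refine Finset.sum_congr rfl fun s hs => ?_
    rw [(Finset.mem_filter.1 hs).2]
  rw [hsum (fun c => (ev x (C.nu c) / ev x (C.nu o)) ^ 2)]
  have h9 := hsum (fun _ => 1)
  simp only [mul_one] at h9
  rw [h9]
  have h10 := ev_of_pEq (x : ℚ) h7
  rw [ev_pMul, ev_pScale, ev_pMul, ev_pMul, ev_pSum, ev_pSum, ← hval] at h10
  have h11 : ∑ c, ev (x : ℚ) (D.kk c) * (ev x (C.nu c) / ev x (C.nu o)) ^ 2 =
      (∑ c, ev x (pMul (D.kk c) (pMul (C.nu c) (C.nu c)))) / ev x (C.nu o) ^ 2 := by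
    rw [Finset.sum_div]
    refine Finset.sum_congr rfl fun c _ => ?_
    rw [ev_pMul, ev_pMul]
    ring
  rw [h11]
  have h12 : (0 : ℚ) < ev x (C.nu o) ^ 2 := by positivity
  rw [← mul_div_assoc, div_eq_iff h12.ne']
  refine mul_left_cancel₀ hden.ne' ?_
  rw [← mul_assoc, h10]
  push_cast
  ring

end Deg

section Mu

variable {I : Type*} {W : Type v} {Y : Type u} [Fintype I] [DecidableEq I] [Group W] [Finite W] [Group Y] [Finite Y]
    {M : CoxeterMatrix I} {cs : CoxeterSystem M W} {A : I → I → ℤ} {h : IsCartan M A} {p : ℕ} {T : Subgroup Y}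
    {n : I → Y} {X : (I → ℤ) → Subgroup Y} (R : RGD cs h p T n X) (hG : GG cs h T X = ⊤)
    {j : I} {N m : ℕ} (D : Data A j N m)

/-- **`⟨χ, 1_{P_J}⟩ = FJ x`** -/
theorem mu_FJ {x : ℕ} (hx : 2 ≤ x) (hq : ∀ i, Nat.card (X (sr i)) = x) (he : ∀ i, D.e i = 1) {C : Crt m}
    (hC : ok1 C (D.t.cls D.t.o) D.bb D.kk) (hD : pDvd C.den C.dn) {χ : Y → ℂ}
    (H : HasVal R hG D.t χ (val C.den C.dn x) (fun c => ev x (C.nu c) / ev x (C.nu (D.t.cls D.t.o)))) (J : Set I) :
    mu (PJ cs h T X J) χ = ((FJ D.t D.wl C.nu J x : ℚ) : ℂ) :=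
  mu_eq R hG D.t (by omega) hq D.wl D.wo (fun i s h1 => by rw [D.ws i s h1, he, add_comm]) H (deg_eq D hx hC hD) J

/-- the multiplicities are the multiplicities of a character of `W` -/
theorem mu_mem {χ : Y → ℂ} {d : ℕ} {a : Fin m → ℚ} {t : Tab A j N m} (H : HasVal R hG t χ d a) (J : Set I) :
    mu (PJ cs h T X J) χ ∈ Set.range fun φ : IrrCharacter W => mu (H439.CC.WJ cs J) (φ : W → ℂ) := by
  obtain ⟨e, he⟩ := H116.HeckeU.equiv_rgd R (H116.RatB0.hgen_of_GG R hG)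
  have h1 : mu (RGD.B cs h T X) χ ≠ 0 := by
    have h2 : mu (PJ cs h T X {i | i ≠ j}) χ ≠ 0 := by
      rw [H594.LB.Mu.mu_one R hG t H]
      exact one_ne_zero
    rw [← H705.Dl.PsRgd.PJ_empty (cs := cs) (h := h) (T := T) (X := X) R]
    exact H439.CC.mu_mono (⟨χ, H.irr⟩ : IrrCharacter Y) (H705.Dl.PsRgd.PJ_mono R (Set.empty_subset _)) h2
  exact ⟨e ⟨⟨χ, H.irr⟩, h1⟩, (he ⟨⟨χ, H.irr⟩, h1⟩ J).symm⟩

end Mu

/-- for every prime `q` there is a root group datum with all `|X_i| = q` -/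
def Fam {I : Type*} {W : Type v} [Fintype I] [DecidableEq I] [Group W] {M : CoxeterMatrix I} (cs : CoxeterSystem M W)
    {A : I → I → ℤ} (h : IsCartan M A) : Prop :=
  ∀ q : ℕ, q.Prime → ∃ (Y : Type) (_ : Group Y) (_ : Finite Y) (p : ℕ) (T : Subgroup Y) (n : I → Y)
    (X : (I → ℤ) → Subgroup Y), ∃ _ : RGD cs h p T n X, GG cs h T X = ⊤ ∧ ∀ i, Nat.card (X (sr i)) = q

section Const

variable {I : Type*} {W : Type v} [Fintype I] [DecidableEq I] [Group W] [Finite W]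
    {M : CoxeterMatrix I} {cs : CoxeterSystem M W} {A : I → I → ℤ} {h : IsCartan M A}
    {j : I} {N m : ℕ} (D : Data A j N m)

include h in
/-- **`FJ` is constant** -/
theorem FJ_const' (hF : Fam cs h) (he : ∀ i, D.e i = 1) {C : Crt m}
    (hC : ok1 C (D.t.cls D.t.o) D.bb D.kk) (hU : Uq C.th C.nu (D.t.cls D.t.o) D.bb) (hD : pDvd C.den C.dn)
    (hnu : ∀ x : ℕ, 1 ≤ x → ev (x : ℚ) (C.nu (D.t.cls D.t.o)) ≠ 0) (J : Set I) (x : ℕ) (hx : 1 ≤ x) :
    FJ D.t D.wl C.nu J x = FJ D.t D.wl C.nu J 1 := by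
  have hfin : Finite (IrrCharacter W) := Characters.Core.finite_irr
  refine H594.LB.Rat.FJ_const D.t hnu D.wl J (S := Set.range fun φ : IrrCharacter W =>
    mu (H439.CC.WJ cs J) (φ : W → ℂ)) (Set.finite_range _) (V := {q | q.Prime}) Nat.infinite_setOf_prime ?_ x hx
  intro q hq
  obtain ⟨Y, _, _, p, T, n, X, R, hG, hX⟩ := hF q hq
  obtain ⟨χ, H⟩ := exists_crt R hG D (Nat.Prime.two_le hq) (fun i => by rw [hX, he, pow_one]) C hC hU hD
  refine ⟨(Nat.Prime.two_le hq).trans' one_le_two, ?_⟩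
  rw [← mu_FJ R hG D (Nat.Prime.two_le hq) hX he hC hD H J]
  exact mu_mem R hG H J

end Const

section MuC

variable {I : Type*} {W : Type v} {Y : Type u} [Fintype I] [DecidableEq I] [Group W] [Finite W] [Group Y] [Finite Y]
    {M : CoxeterMatrix I} {cs : CoxeterSystem M W} {A : I → I → ℤ} {h : IsCartan M A} {p : ℕ} {T : Subgroup Y}
    {n : I → Y} {X : (I → ℤ) → Subgroup Y} (R : RGD cs h p T n X) (hG : GG cs h T X = ⊤)
    {j : I} {N m : ℕ} (D : Data A j N m)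

/-- **`⟨χ, 1_{P_J}⟩ = FJ 1`** -/
theorem mu_const (hF : Fam cs h) {x : ℕ} (hx : 2 ≤ x) (hq : ∀ i, Nat.card (X (sr i)) = x) (he : ∀ i, D.e i = 1)
    {C : Crt m} (hC : ok1 C (D.t.cls D.t.o) D.bb D.kk) (hU : Uq C.th C.nu (D.t.cls D.t.o) D.bb)
    (hD : pDvd C.den C.dn) (hnu : ∀ x : ℕ, 1 ≤ x → ev (x : ℚ) (C.nu (D.t.cls D.t.o)) ≠ 0) {χ : Y → ℂ}
    (H : HasVal R hG D.t χ (val C.den C.dn x) (fun c => ev x (C.nu c) / ev x (C.nu (D.t.cls D.t.o)))) (J : Set I)
    {v : ℤ} (hv : FJ D.t D.wl C.nu J 1 = v) : mu (PJ cs h T X J) χ = v := by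
  rw [mu_FJ R hG D hx hq he hC hD H J, FJ_const' D hF he hC hU hD hnu J x (by omega), hv]
  push_cast
  rfl

end MuC

/-- `Fam` for the split groups -/
theorem fam_split {D : ChevalleyDatum} {l : ℕ} {M : CoxeterMatrix (Fin l)} (hp : IsType D l M) {W : Type}
    [Group W] (cs : CoxeterSystem M W) : Fam cs hp.isCartan := by
  intro q hq
  have : Fact q.Prime := ⟨hq⟩
  have := finite_W hp cs
  have : Finite ↥(D.group (ZMod q)) := inferInstance
  refine ⟨↥(D.group (ZMod q)), inferInstance, inferInstance, q, _, _, _, rgd (K := ZMod q) hp cs q,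
    GG_eq_top hp (ZMod q) cs, fun i => ?_⟩
  rw [card_XX hp (ZMod q) cs (isRoot_sr _ _ i), Nat.card_zmod]

end Cfsg.Agent.H632.LB
end

-- part: H632/LB/Val
section
/-!
# `E₈`: the multiplicities `⟨χ, 1_{P_K}⟩`, `K ⊆ {0,1,2,4,5}` or `K ⊆ {0,2,4,5,6}` (helper632, for S4879)

* `look V K` : the entry of `K` in the table `V`;
* `fj6`, `fj7` : the values of `FJ` at `1`;
* `mu6`, `mu7` : the multiplicities.
-/

set_option autoImplicit false
set_option linter.unusedSectionVars false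
set_option maxRecDepth 20000

namespace Cfsg.Agent.H632.LB.Val

open Cfsg Cfsg.Agent.H967.Sph Cfsg.Agent.H317.PQ Cfsg.Agent.H64.Dl.Sph
  Cfsg.Agent.H996.Eight Cfsg.Agent.H996.Eight.Cert Cfsg.Agent.H996.PQ Cfsg.Agent.H996.PQ.Big
open Cfsg.Agent.H790.PQ Cfsg.Agent.H594.PQ Cfsg.Agent.H594.LB.Mem Cfsg.Agent.H329.LB Cfsg.Agent.H594.LB.Mu
open CoxeterSystem Cfsg.Agent.ChevalleyStructure.CoxeterGeom Cfsg.Agent.Tits.Roots Cfsg.Agent.Tits.Core
  Cfsg.Agent.Nodes.Reps Cfsg.Agent.Nodes.BNOf Cfsg.Agent.Nodes.Bruhat Cfsg.Agent.Nodes.LeviDec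
open Cfsg.Agent.H439.CC (mu)
open Cfsg.Agent.H632.LB Cfsg.Agent.H632.LB.Fam Cfsg.Agent.H632.PQ.Fast

universe u v

/-- the code of a set -/
def codeL (L : List ℕ) : ℕ := L.foldr (fun i a => 2 ^ i + a) 0

/-- the code of a set -/
def code (K : Finset (Fin 8)) : ℕ := ∑ i ∈ K, 2 ^ (i : ℕ)

/-- the sets `K ⊆ {0,1,2,4,5}` or `K ⊆ {0,2,4,5,6}` -/
def Inn (K : Finset (Fin 8)) : Prop := K ⊆ {0, 1, 2, 4, 5} ∨ K ⊆ {0, 2, 4, 5, 6}

instance : DecidablePred Inn := fun K => inferInstanceAs (Decidable (K ⊆ {0, 1, 2, 4, 5} ∨ K ⊆ {0, 2, 4, 5, 6}))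

/-- the entry of a table -/
def look (V : ℕ) (K : Finset (Fin 8)) : ℕ := V / 2 ^ (16 * code K) % 2 ^ 16

private noncomputable def _root_.Cfsg.Agent.LsF.fb5ac15_3 : {f // @Cfsg.Agent.H632.LB.Val.code = f} := ⟨_, by first | (delta Cfsg.Agent.H632.LB.Val.code; rewrite [Cfsg.Agent.LsF.npow_pat, Cfsg.Agent.LsF.fsum_eq, Cfsg.Agent.LsF.nACM_eq]; exact rfl) | exact rfl⟩
private noncomputable def _root_.Cfsg.Agent.LsF.fb5ac15_4 : {f // @Cfsg.Agent.H632.LB.Val.codeL = f} := ⟨_, by first | (delta Cfsg.Agent.H632.LB.Val.codeL; rewrite [Cfsg.Agent.LsF.nadd_pat, Cfsg.Agent.LsF.npow_pat, Cfsg.Agent.LsF.foldr_eq]; exact rfl) | exact rfl⟩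
theorem mem6 : ∀ K : Finset (Fin 8), Inn K → ∃ x ∈ dat6,
    (∀ i : Fin 8, i ∈ K ↔ (i : ℕ) ∈ x.1) ∧ (∀ i ∈ x.1, i < 8) ∧ code K = codeL x.1 := by (refine of_decide_eq_true ?_; (try (delta Cfsg.Agent.H632.LB.Val.Inn Cfsg.Agent.H632.LB.Val.instDecidablePredFinsetFinOfNatNatInn Cfsg.Agent.H632.LB.Val.instDecidablePredFinsetFinOfNatNatInn._aux_1; rewrite [Cfsg.Agent.LsF.dMemE_pat, Cfsg.Agent.LsF.fb5ac15_3.2, Cfsg.Agent.LsF.fb5ac15_4.2, Cfsg.Agent.LsF.finFintype_eq, Cfsg.Agent.LsF.dForall_eq, Cfsg.Agent.LsF.dFMem_eq, Cfsg.Agent.LsF.instDecEq_eq, Cfsg.Agent.LsF.decLt_eq, Cfsg.Agent.LsF.dAnd_eq, Cfsg.Agent.LsF.dOr_eq, Cfsg.Agent.LsF.dFinEq_eq, Cfsg.Agent.LsF.dBAll_eq, Cfsg.Agent.LsF.dBEx_eq, Cfsg.Agent.LsF.dForallFin_eq, Cfsg.Agent.LsF.dAllP_eq, Cfsg.Agent.LsF.dIffI_eq, Cfsg.Agent.LsF.decide_eq])); decide +kernel)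

theorem mem7 : ∀ K : Finset (Fin 8), Inn K → ∃ x ∈ dat7,
    (∀ i : Fin 8, i ∈ K ↔ (i : ℕ) ∈ x.1) ∧ (∀ i ∈ x.1, i < 8) ∧ code K = codeL x.1 := by (refine of_decide_eq_true ?_; (try (delta Cfsg.Agent.H632.LB.Val.Inn Cfsg.Agent.H632.LB.Val.instDecidablePredFinsetFinOfNatNatInn Cfsg.Agent.H632.LB.Val.instDecidablePredFinsetFinOfNatNatInn._aux_1; rewrite [Cfsg.Agent.LsF.dMemE_pat, Cfsg.Agent.LsF.fb5ac15_3.2, Cfsg.Agent.LsF.fb5ac15_4.2, Cfsg.Agent.LsF.finFintype_eq, Cfsg.Agent.LsF.dForall_eq, Cfsg.Agent.LsF.dFMem_eq, Cfsg.Agent.LsF.instDecEq_eq, Cfsg.Agent.LsF.decLt_eq, Cfsg.Agent.LsF.dAnd_eq, Cfsg.Agent.LsF.dOr_eq, Cfsg.Agent.LsF.dFinEq_eq, Cfsg.Agent.LsF.dBAll_eq, Cfsg.Agent.LsF.dBEx_eq, Cfsg.Agent.LsF.dForallFin_eq, Cfsg.Agent.LsF.dAllP_eq, Cfsg.Agent.LsF.dIffI_eq, Cfsg.Agent.LsF.decide_eq])); decide +kernel)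

/-- the sizes of the classes, node `6` -/
def kv6 : Fin 26 → ℤ := ![1, 54, 216, 54, 540, 432, 432, 27, 864, 2, 720, 54, 54, 540, 864, 54, 54, 432, 432, 27, 540, 216, 2, 54, 54, 1]

/-- the sizes of the classes, node `7` -/
def kv7 : Fin 5 → ℤ := ![1, 56, 126, 56, 1]

theorem kv6_eq : ∀ c, evZ 1 (TabE8c.data.kk c) = kv6 c := by decide +kernel

theorem kv7_eq : ∀ c, evZ 1 (TabE8a.data.kk c) = kv7 c := by decide +kernel

/-- the test of a table of multiplicities -/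
def ChkV {m : ℕ} (dat : List (List ℕ × ℕ × ℕ)) (kv vv : Fin m → ℤ) (o : Fin m) (V : ℕ) : Prop :=
  vv o ≠ 0 ∧ ∑ c, kv c * vv c ^ 2 ≠ 0 ∧ ∀ x ∈ dat, ((V / 2 ^ (16 * codeL x.1) % 2 ^ 16 : ℕ) : ℤ) * ∑ c, kv c * vv c ^ 2 =
    vv o * ∑ c : Fin m, ((x.2.2 / 2 ^ (16 * (c : ℕ)) % 2 ^ 16 : ℕ) : ℤ) * vv c

instance {m : ℕ} (dat : List (List ℕ × ℕ × ℕ)) (kv vv : Fin m → ℤ) (o : Fin m) (V : ℕ) :
    Decidable (ChkV dat kv vv o V) := by
  unfold ChkV
  infer_instance

theorem fj6 {nu : Fin 26 → List ℤ} {vv : Fin 26 → ℤ} (hvv : ∀ c, evZ 1 (nu c) = vv c) {V : ℕ}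
    (hV : ChkV dat6 kv6 vv 0 V) {K : Finset (Fin 8)} (hK : Inn K) :
    FJ TabE8c.data.t TabE8c.data.wl nu (K : Set (Fin 8)) 1 = ((look V K : ℕ) : ℤ) := by
  obtain ⟨x, hx, h1, h2, h3⟩ := mem6 K hK
  obtain ⟨h4, h5, h6⟩ := dat6_ok x hx
  obtain ⟨h7, h8, h9⟩ := hV
  refine FJ_val acc6 h1 h2 h4 H594.LB.Inv.inv6_o H594.LB.Inv.inv6_st (by norm_num) (by norm_num) h5 h6
    TabE8c.data.chkK cls_o ⟨by rw [hvv]; exact h7, ?_, ?_⟩
  · simp only [hvv, kv6_eq]
    exact h8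
  · simp only [hvv, kv6_eq, look, h3]
    exact h9 x hx

theorem fj7 {nu : Fin 5 → List ℤ} {vv : Fin 5 → ℤ} (hvv : ∀ c, evZ 1 (nu c) = vv c) {V : ℕ}
    (hV : ChkV dat7 kv7 vv 0 V) {K : Finset (Fin 8)} (hK : Inn K) :
    FJ TabE8a.data.t TabE8a.data.wl nu (K : Set (Fin 8)) 1 = ((look V K : ℕ) : ℤ) := by
  obtain ⟨x, hx, h1, h2, h3⟩ := mem7 K hK
  obtain ⟨h4, h5, h6⟩ := dat7_ok x hx
  obtain ⟨h7, h8, h9⟩ := hV
  refine FJ_val acc7 h1 h2 h4 H594.LB.Inv.inv7_o H594.LB.Inv.inv7_st (by norm_num) (by norm_num) h5 h6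
    TabE8a.data.chkK clsP ⟨by rw [hvv]; exact h7, ?_, ?_⟩
  · simp only [hvv, kv7_eq]
    exact h8
  · simp only [hvv, kv7_eq, look, h3]
    exact h9 x hx

theorem nz {p : List ℤ} (h2 : pPos p = true) (h1 : evZ 1 p ≠ 0) (x : ℕ) (hx : 1 ≤ x) : ev (x : ℚ) p ≠ 0 := by
  rcases Nat.lt_or_ge 1 x with h | h
  · exact (ev_pos (by exact_mod_cast h) h2).ne'
  · obtain rfl : x = 1 := by omega
    have h3 := evZ_cast 1 p
    push_cast at h3 ⊢
    rw [← h3]
    exact_mod_cast h1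

section Mu

variable {W : Type v} {Y : Type u} [Group W] [Finite W] [Group Y] [Finite Y]
    {M : CoxeterMatrix (Fin 8)} {cs : CoxeterSystem M W} {h : IsCartan M TabE8c.A} {p : ℕ} {T : Subgroup Y}
    {n : Fin 8 → Y} {X : (Fin 8 → ℤ) → Subgroup Y} (R : RGD cs h p T n X) (hG : GG cs h T X = ⊤)

variable (hF : Fam cs h) {x : ℕ} (hx : 2 ≤ x) (hq : ∀ i, Nat.card (X (sr i)) = x)

include hF hx hq in
theorem mu6 {C : Crt 26} (hC : ok1 C 0 TabE8c.data.bb TabE8c.data.kk) (hU : Uq C.th C.nu 0 TabE8c.data.bb)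
    (hD : pDvd C.den C.dn) (hp : pPos (C.nu 0) = true) {vv : Fin 26 → ℤ} (hvv : ∀ c, evZ 1 (C.nu c) = vv c) {V : ℕ}
    (hV : ChkV dat6 kv6 vv 0 V) {K : Finset (Fin 8)} (hK : Inn K) {χ : Y → ℂ} (H : Is6 R hG x C χ) :
    mu (PJ cs h T X (K : Set (Fin 8))) χ = ((look V K : ℕ) : ℂ) := by
  have h1 := fj6 hvv hV hK
  rw [← cls_o] at hC hU
  have h2 := mu_const R hG TabE8c.data hF hx hq e_eq hC hU hD
    (fun x hx => by rw [cls_o]; exact nz hp (by rw [hvv]; exact hV.1) x hx) (χ := χ) (by rw [cls_o]; exact H)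
    (K : Set (Fin 8)) h1
  rw [h2]
  push_cast
  rfl

include hF hx hq in
theorem mu7 {C : Crt 5} (hC : ok1 C 0 TabE8a.data.bb TabE8a.data.kk) (hU : Uq C.th C.nu 0 TabE8a.data.bb)
    (hD : pDvd C.den C.dn) (hp : pPos (C.nu 0) = true) {vv : Fin 5 → ℤ} (hvv : ∀ c, evZ 1 (C.nu c) = vv c) {V : ℕ}
    (hV : ChkV dat7 kv7 vv 0 V) {K : Finset (Fin 8)} (hK : Inn K) {χ : Y → ℂ} (H : Is7 R hG x C χ) :
    mu (PJ cs h T X (K : Set (Fin 8))) χ = ((look V K : ℕ) : ℂ) := by
  have h1 : FJ dataP.t dataP.wl C.nu (K : Set (Fin 8)) 1 = ((look V K : ℕ) : ℤ) := fj7 hvv hV hK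
  have hC' : ok1 C (dataP.t.cls dataP.t.o) dataP.bb dataP.kk := by rw [clsP]; exact hC
  have hU' : Uq C.th C.nu (dataP.t.cls dataP.t.o) dataP.bb := by rw [clsP]; exact hU
  have h2 := mu_const R hG dataP hF hx hq eP hC' hU' hD
    (fun x hx => by rw [clsP]; exact nz hp (by rw [hvv]; exact hV.1) x hx) (χ := χ) (by rw [clsP]; exact H)
    (K : Set (Fin 8)) h1
  rw [h2]
  push_cast
  rfl

end Mu

/-- the values at `1`, `567` -/
def vv567 : Fin 26 → ℤ := ![54, 5, -4, -6, 1, 2, 2, -2, -1, -27, 0, 1, 1, -2, -1, 1, 1, 2, 2, -2, 1, -4, -27, -6, 5, 54]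

theorem vv567_eq : ∀ c, evZ 1 (E567.C.nu c) = vv567 c := by decide +kernel

/-- the multiplicities of `567` -/
def V567 : ℕ := 0x1e0041000000000041006e00000000000000000000000000000000000000000045008700000000008700d800000000000000000000000000000000000000000052009c00000000009c00f60000000000000000000000000000000000000000008700f60000000000f6017a00000000000000000000000000000000002800520045008700520087008700d8000000000000000000000000000000000052009c008700f6009c00f600f6017a000000000000000000000000000000000052009c008700f6009c00f600f6017a00000000000000000000000000000000008700f600d8017a00f6017a017a0237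

private noncomputable def _root_.Cfsg.Agent.LsF.fb5ac15_5 : {f // @Cfsg.Agent.H632.LB.Val.vv567 = f} := ⟨_, by first | (delta Cfsg.Agent.H632.LB.Val.vv567; rewrite [Cfsg.Agent.LsF.ineg_pat, Cfsg.Agent.LsF.vecCons_eq]; exact rfl) | exact rfl⟩
private noncomputable def _root_.Cfsg.Agent.LsF.fb5ac15_6 : {f // @Cfsg.Agent.H632.LB.Val.kv6 = f} := ⟨_, by first | (delta Cfsg.Agent.H632.LB.Val.kv6; rewrite [Cfsg.Agent.LsF.vecCons_eq]; exact rfl) | exact rfl⟩
theorem V567_ok : ChkV dat6 kv6 vv567 0 V567 := by (refine of_decide_eq_true ?_; (try (delta Cfsg.Agent.H632.LB.Val.ChkV Cfsg.Agent.H632.LB.Val.instDecidableChkV; rewrite [Cfsg.Agent.LsF.sumF_pat, Cfsg.Agent.LsF.fb5ac15_5.2, Cfsg.Agent.LsF.fb5ac15_6.2, Cfsg.Agent.LsF.fb5ac15_4.2, Cfsg.Agent.LsF.nmul_pat, Cfsg.Agent.LsF.ndiv_pat, Cfsg.Agent.LsF.nmod_pat, Cfsg.Agent.LsF.npow_pat, Cfsg.Agent.LsF.iadd_pat, Cfsg.Agent.LsF.imul_pat, Cfsg.Agent.LsF.icast_pat, Cfsg.Agent.LsF.iACM_eq,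 Cfsg.Agent.LsF.instIDecEq_eq, Cfsg.Agent.LsF.dAnd_eq, Cfsg.Agent.LsF.dNot_eq, Cfsg.Agent.LsF.dBAll_eq, Cfsg.Agent.LsF.decide_eq])); decide +kernel)

theorem pos567 : pPos (E567.C.nu 0) = true := by (simp only [Cfsg.Agent.H996.Eight.Kq.pPos_eq]; decide +kernel)

/-- the values at `1`, `1344` -/
def vv1344 : Fin 26 → ℤ := ![216, -20, 4, 16, 0, -2, -2, -8, 1, -108, 0, 4, 4, 0, 1, 4, 4, -2, -2, -8, 0, 4, -108, 16, -20, 216]

theorem vv1344_eq : ∀ c, evZ 1 (Ea12.C.nu c) = vv1344 c := by decide +kernel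

/-- the multiplicities of `1344` -/
def V1344 : ℕ := 0x30006b00000000006b00b40000000000000000000000000000000000000000007800ff0000000000ff01a40000000000000000000000000000000000000000009b01400000000001400208000000000000000000000000000000000000000000ff02080000000002080348000000000000000000000000000000000049009b007800ff009b00ff00ff01a400000000000000000000000000000000009b014000ff0208014002080208034800000000000000000000000000000000009b014000ff020801400208020803480000000000000000000000000000000000ff020801a403480208034803480540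

private noncomputable def _root_.Cfsg.Agent.LsF.fb5ac15_7 : {f // @Cfsg.Agent.H632.LB.Val.vv1344 = f} := ⟨_, by first | (delta Cfsg.Agent.H632.LB.Val.vv1344; rewrite [Cfsg.Agent.LsF.ineg_pat, Cfsg.Agent.LsF.vecCons_eq]; exact rfl) | exact rfl⟩
theorem V1344_ok : ChkV dat6 kv6 vv1344 0 V1344 := by (refine of_decide_eq_true ?_; (try (delta Cfsg.Agent.H632.LB.Val.ChkV Cfsg.Agent.H632.LB.Val.instDecidableChkV; rewrite [Cfsg.Agent.LsF.sumF_pat, Cfsg.Agent.LsF.fb5ac15_7.2, Cfsg.Agent.LsF.fb5ac15_6.2, Cfsg.Agent.LsF.fb5ac15_4.2, Cfsg.Agent.LsF.nmul_pat, Cfsg.Agent.LsF.ndiv_pat, Cfsg.Agent.LsF.nmod_pat, Cfsg.Agent.LsF.npow_pat, Cfsg.Agent.LsF.iadd_pat, Cfsg.Agent.LsF.imul_pat, Cfsg.Agent.LsF.icast_pat, Cfsg.Agent.LsF.iACM_eq, Cfsg.Agent.LsF.instIDecEq_eq, Cfsg.Agent.LsF.dAnd_eq, Cfsg.Agent.LsF.dNot_eq, Cfsg.Agent.LsF.dBAll_eq, Cfsg.Agent.LsF.decide_eq])); decide +kernel)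

theorem pos1344 : pPos (Ea12.C.nu 0) = true := by (simp only [Cfsg.Agent.H996.Eight.Kq.pPos_eq]; decide +kernel)

/-- the values at `1`, `448` -/
def vv448 : Fin 26 → ℤ := ![72, -8, 2, 8, 0, -2, -2, -8, 2, -72, 0, 8, 8, 0, -2, -8, -8, 2, 2, 8, 0, -2, 72, -8, 8, -72]

theorem vv448_eq : ∀ c, evZ 1 (E448.C.nu c) = vv448 c := by decide +kernel

/-- the multiplicities of `448` -/
def V448 : ℕ := 0x12002400000000002400380000000000000000000000000000000000000000002a0056000000000056008800000000000000000000000000000000000000000038007000000000007000b00000000000000000000000000000000000000000005600b00000000000b0011800000000000000000000000000000000001d0038002a005600380056005600880000000000000000000000000000000000380070005600b0007000b000b001180000000000000000000000000000000000380070005600b0007000b000b0011800000000000000000000000000000000005600b00088011800b00118011801c0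

private noncomputable def _root_.Cfsg.Agent.LsF.fb5ac15_8 : {f // @Cfsg.Agent.H632.LB.Val.vv448 = f} := ⟨_, by first | (delta Cfsg.Agent.H632.LB.Val.vv448; rewrite [Cfsg.Agent.LsF.ineg_pat, Cfsg.Agent.LsF.vecCons_eq]; exact rfl) | exact rfl⟩
theorem V448_ok : ChkV dat6 kv6 vv448 0 V448 := by (refine of_decide_eq_true ?_; (try (delta Cfsg.Agent.H632.LB.Val.ChkV Cfsg.Agent.H632.LB.Val.instDecidableChkV; rewrite [Cfsg.Agent.LsF.sumF_pat, Cfsg.Agent.LsF.fb5ac15_8.2, Cfsg.Agent.LsF.fb5ac15_6.2, Cfsg.Agent.LsF.fb5ac15_4.2, Cfsg.Agent.LsF.nmul_pat, Cfsg.Agent.LsF.ndiv_pat, Cfsg.Agent.LsF.nmod_pat, Cfsg.Agent.LsF.npow_pat, Cfsg.Agent.LsF.iadd_pat, Cfsg.Agent.LsF.imul_pat, Cfsg.Agent.LsF.icast_pat, Cfsg.Agent.LsF.iACM_eq, Cfsg.Agent.LsF.instIDecEq_eq, Cfsg.Agent.LsF.dAnd_eq, Cfsg.Agent.LsF.dNot_eq, Cfsg.Agent.LsF.dBAll_eq, Cfsg.Agent.LsF.decide_eq])); decide +kernel)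

theorem pos448 : pPos (E448.C.nu 0) = true := by (simp only [Cfsg.Agent.H996.Eight.Kq.pPos_eq]; decide +kernel)

/-- the values at `1`, `1400` -/
def vv1400 : Fin 26 → ℤ := ![540, -30, 0, 0, 6, 0, 0, -60, 0, 270, 0, -30, -30, 0, 0, 30, 30, 0, 0, 60, -6, 0, -270, 0, 30, -540]

theorem vv1400_eq : ∀ c, evZ 1 (E1400.C.nu c) = vv1400 c := by decide +kernel

/-- the multiplicities of `1400` -/
def V1400 : ℕ := 0x31006f00000000006f00be0000000000000000000000000000000000000000007c010900000000010901b80000000000000000000000000000000000000000009f014a00000000014a021c00000000000000000000000000000000000000000109021c00000000021c036b00000000000000000000000000000000004a009f007c0109009f0109010901b800000000000000000000000000000000009f014a0109021c014a021c021c036b00000000000000000000000000000000009f014a0109021c014a021c021c036b000000000000000000000000000000000109021c01b8036b021c036b036b0578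

private noncomputable def _root_.Cfsg.Agent.LsF.fb5ac15_9 : {f // @Cfsg.Agent.H632.LB.Val.vv1400 = f} := ⟨_, by first | (delta Cfsg.Agent.H632.LB.Val.vv1400; rewrite [Cfsg.Agent.LsF.ineg_pat, Cfsg.Agent.LsF.vecCons_eq]; exact rfl) | exact rfl⟩
theorem V1400_ok : ChkV dat6 kv6 vv1400 0 V1400 := by (refine of_decide_eq_true ?_; (try (delta Cfsg.Agent.H632.LB.Val.ChkV Cfsg.Agent.H632.LB.Val.instDecidableChkV; rewrite [Cfsg.Agent.LsF.sumF_pat, Cfsg.Agent.LsF.fb5ac15_9.2, Cfsg.Agent.LsF.fb5ac15_6.2, Cfsg.Agent.LsF.fb5ac15_4.2, Cfsg.Agent.LsF.nmul_pat, Cfsg.Agent.LsF.ndiv_pat, Cfsg.Agent.LsF.nmod_pat, Cfsg.Agent.LsF.npow_pat, Cfsg.Agent.LsF.iadd_pat, Cfsg.Agent.LsF.imul_pat, Cfsg.Agent.LsF.icast_pat, Cfsg.Agent.LsF.iACM_eq, Cfsg.Agent.LsF.instIDecEq_eq, Cfsg.Agent.LsF.dAnd_eq, Cfsg.Agent.LsF.dNot_eq, Cfsg.Agent.LsF.dBAll_eq, Cfsg.Agent.LsF.decide_eq])); decide +kernel)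

theorem pos1400 : pPos (E1400.C.nu 0) = true := by (simp only [Cfsg.Agent.H996.Eight.Kq.pPos_eq]; decide +kernel)

/-- the values at `1`, `8` -/
def vv8 : Fin 5 → ℤ := ![2, 1, 0, -1, -2]

theorem vv8_eq : ∀ c, evZ 1 (TabE8a.c1.nu c) = vv8 c := by decide +kernel

/-- the multiplicities of `8` -/
def V8 : ℕ := 0x3000400000000000400050000000000000000000000000000000000000000000400050000000000050006000000000000000000000000000000000000000000040005000000000005000600000000000000000000000000000000000000000005000600000000000600070000000000000000000000000000000000030004000400050004000500050006000000000000000000000000000000000004000500050006000500060006000700000000000000000000000000000000000400050005000600050006000600070000000000000000000000000000000000050006000600070006000700070008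

theorem V8_ok : ChkV dat7 kv7 vv8 0 V8 := by decide +kernel

theorem pos8 : pPos (TabE8a.c1.nu 0) = true := by (simp only [Cfsg.Agent.H996.Eight.Kq.pPos_eq]; decide +kernel)

/-- the values at `1`, `84` -/
def vv84 : Fin 5 → ℤ := ![42, -3, 2, -3, 42]

theorem vv84_eq : ∀ c, evZ 1 (TabE8a.c3.nu c) = vv84 c := by decide +kernel

/-- the multiplicities of `84` -/
def V84 : ℕ := 0xc0013000000000013001a00000000000000000000000000000000000000000014001f00000000001f002a000000000000000000000000000000000000000000170023000000000023002f0000000000000000000000000000000000000000001f002f00000000002f003f00000000000000000000000000000000000f00170014001f0017001f001f002a0000000000000000000000000000000000170023001f002f0023002f002f003f0000000000000000000000000000000000170023001f002f0023002f002f003f00000000000000000000000000000000001f002f002a003f002f003f003f0054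

theorem V84_ok : ChkV dat7 kv7 vv84 0 V84 := by decide +kernel

theorem pos84 : pPos (TabE8a.c3.nu 0) = true := by (simp only [Cfsg.Agent.H996.Eight.Kq.pPos_eq]; decide +kernel)

/-- the values at `1`, `112` -/
def vv112 : Fin 5 → ℤ := ![56, -2, 0, 2, -56]

theorem vv112_eq : ∀ c, evZ 1 (TabE8a.c4.nu c) = vv112 c := by decide +kernel

/-- the multiplicities of `112` -/
def V112 : ℕ := 0xf001900000000001900240000000000000000000000000000000000000000001a002900000000002900390000000000000000000000000000000000000000001d002d00000000002d003e00000000000000000000000000000000000000000029003e00000000003e0054000000000000000000000000000000000012001d001a0029001d00290029003900000000000000000000000000000000001d002d0029003e002d003e003e005400000000000000000000000000000000001d002d0029003e002d003e003e0054000000000000000000000000000000000029003e00390054003e005400540070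

theorem V112_ok : ChkV dat7 kv7 vv112 0 V112 := by decide +kernel

theorem pos112 : pPos (TabE8a.c4.nu 0) = true := by (simp only [Cfsg.Agent.H996.Eight.Kq.pPos_eq]; decide +kernel)

section Mu

variable {W : Type v} {Y : Type u} [Group W] [Finite W] [Group Y] [Finite Y]
    {M : CoxeterMatrix (Fin 8)} {cs : CoxeterSystem M W} {h : IsCartan M TabE8c.A} {p : ℕ} {T : Subgroup Y}
    {n : Fin 8 → Y} {X : (Fin 8 → ℤ) → Subgroup Y} (R : RGD cs h p T n X) (hG : GG cs h T X = ⊤)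

variable (hF : Fam cs h) {x : ℕ} (hx : 2 ≤ x) (hq : ∀ i, Nat.card (X (sr i)) = x) {K : Finset (Fin 8)} (hK : Inn K)
  {χ : Y → ℂ}

include hF hx hq hK

/-- **`567`** -/
theorem mu_567 (H : Is6 R hG x E567.C χ) : mu (PJ cs h T X (K : Set (Fin 8))) χ = ((look V567 K : ℕ) : ℂ) :=
  mu6 R hG hF hx hq E567.ok E567.uq E567.dvd pos567 vv567_eq V567_ok hK H

/-- **`1344`** -/
theorem mu_1344 (H : Is6 R hG x Ea12.C χ) : mu (PJ cs h T X (K : Set (Fin 8))) χ = ((look V1344 K : ℕ) : ℂ) :=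
  mu6 R hG hF hx hq Ea12.ok Ea12.uq Ea12.dvd pos1344 vv1344_eq V1344_ok hK H

/-- **`448`** -/
theorem mu_448 (H : Is6 R hG x E448.C χ) : mu (PJ cs h T X (K : Set (Fin 8))) χ = ((look V448 K : ℕ) : ℂ) :=
  mu6 R hG hF hx hq E448.ok1 E448.uq E448.dvd pos448 vv448_eq V448_ok hK H

/-- **`1400`** -/
theorem mu_1400 (H : Is6 R hG x E1400.C χ) : mu (PJ cs h T X (K : Set (Fin 8))) χ = ((look V1400 K : ℕ) : ℂ) :=
  mu6 R hG hF hx hq E1400.ok1 E1400.uq E1400.dvd pos1400 vv1400_eq V1400_ok hK H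

/-- **`8`** -/
theorem mu_8 (H : Is7 R hG x TabE8a.c1 χ) : mu (PJ cs h T X (K : Set (Fin 8))) χ = ((look V8 K : ℕ) : ℂ) :=
  mu7 R hG hF hx hq (ok1_of_ok TabE8a.ok1) (uq_of_ok TabE8a.ok1) TabE8a.dvd1 pos8 vv8_eq V8_ok hK H

/-- **`84`** -/
theorem mu_84 (H : Is7 R hG x TabE8a.c3 χ) : mu (PJ cs h T X (K : Set (Fin 8))) χ = ((look V84 K : ℕ) : ℂ) :=
  mu7 R hG hF hx hq (ok1_of_ok TabE8a.ok3) (uq_of_ok TabE8a.ok3) TabE8a.dvd3 pos84 vv84_eq V84_ok hK H

/-- **`112`** -/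
theorem mu_112 (H : Is7 R hG x TabE8a.c4 χ) : mu (PJ cs h T X (K : Set (Fin 8))) χ = ((look V112 K : ℕ) : ℂ) :=
  mu7 R hG hF hx hq (ok1_of_ok TabE8a.ok4) (uq_of_ok TabE8a.ok4) TabE8a.dvd4 pos112 vv112_eq V112_ok hK H

end Mu

end Cfsg.Agent.H632.LB.Val
end

-- part: H632/LB/Mat
section
/-!
# `E₈`: the 11 x 11 matrices of the multiplicities of the members and their duals (helper632, for S4879; made by a program)

`rows i` : eleven sets `K` of nodes of types `∅, A₁, A₂, 3A₁, A₂A₁, A₃, A₂+2A₁, 2A₂, A₃A₁, 2A₂A₁, A₃A₂`.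
* `det5` : `1, 8, 84, 112, 567, 1344` and the duals of the first five;
* `det10` : `1, 8, 84, 567, 448, 1400` and the duals of the first five;
* `mu_AM`, `mu_five`, `mu_ten` : the multiplicities are the entries.
-/

set_option autoImplicit false
set_option linter.unusedSectionVars false
set_option maxRecDepth 20000

namespace Cfsg.Agent.H632.LB.Val.Mat

open Cfsg Cfsg.Agent.H967.Sph Cfsg.Agent.H317.PQ Cfsg.Agent.H64.Dl.Sph
  Cfsg.Agent.H996.Eight Cfsg.Agent.H996.Eight.Cert Cfsg.Agent.H996.PQ Cfsg.Agent.H996.PQ.Big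
open Cfsg.Agent.H790.PQ Cfsg.Agent.H594.PQ Cfsg.Agent.H594.LB.Mem Cfsg.Agent.H329.LB Cfsg.Agent.H594.LB.Mu
open CoxeterSystem Cfsg.Agent.ChevalleyStructure.CoxeterGeom Cfsg.Agent.Tits.Roots Cfsg.Agent.Tits.Core
  Cfsg.Agent.Nodes.Reps Cfsg.Agent.Nodes.BNOf Cfsg.Agent.Nodes.Bruhat Cfsg.Agent.Nodes.LeviDec
open Cfsg.Agent.H439.CC (mu)
open Cfsg.Agent.H632.LB Cfsg.Agent.H632.PQ.Fast

universe u v

/-- the sets of nodes -/
def rows : Fin 11 → Finset (Fin 8) :=
  ![∅, {0}, {0, 2}, {0, 1, 4}, {0, 1, 2}, {4, 5, 6}, {0, 1, 2, 4}, {0, 2, 4, 5}, {0, 4, 5, 6}, {0, 1, 2, 4, 5}, {0, 2, 4, 5, 6}]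

theorem inn_rows : ∀ i, Inn (rows i) := by decide +kernel

theorem Inn.sub {K L : Finset (Fin 8)} (hK : Inn K) (h : L ⊆ K) : Inn L := by
  rcases hK with hK | hK
  · exact Or.inl (h.trans hK)
  · exact Or.inr (h.trans hK)

/-- the multiplicities of the trivial character -/
def V1 : ℕ := 0x1000100000000000100010000000000000000000000000000000000000000000100010000000000010001000000000000000000000000000000000000000000010001000000000001000100000000000000000000000000000000000000000001000100000000000100010000000000000000000000000000000000010001000100010001000100010001000000000000000000000000000000000001000100010001000100010001000100000000000000000000000000000000000100010001000100010001000100010000000000000000000000000000000000010001000100010001000100010001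

theorem look_V1 : ∀ K, Inn K → look V1 K = 1 := by decide +kernel

/-- the multiplicities of the dual -/
def dl (V : ℕ) (K : Finset (Fin 8)) : ℤ := ∑ L ∈ K.powerset, (-1) ^ L.card * (look V L : ℤ)

/-- the matrix of the multiplicities -/
def AM (V : Fin 6 → ℕ) : Matrix (Fin 11) (Fin 11) ℤ := Matrix.of fun i =>
  (Fin.append (fun j : Fin 6 => (look (V j) (rows i) : ℤ)) (fun j : Fin 5 => dl (V j.castSucc) (rows i)) : Fin 11 → ℤ)

/-- a matrix -/
def mk (L : List (List ℤ)) : Matrix (Fin 11) (Fin 11) ℤ := Matrix.of fun i j => (L.getD i []).getD j 0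

theorem det_ne {A B : Matrix (Fin 11) (Fin 11) ℤ} {d : ℤ} (hd : d ≠ 0) (h : ∀ i j, (∑ k, A i k * B k j) = if i = j then d else 0) :
    A.det ≠ 0 := by
  have h1 : A * B = Matrix.diagonal fun _ => d := by
    ext i j
    rw [Matrix.mul_apply, h, Matrix.diagonal_apply]
  intro h2
  have h3 := congrArg Matrix.det h1
  rw [Matrix.det_mul, h2, zero_mul, Matrix.det_diagonal, Finset.prod_const] at h3
  exact pow_ne_zero _ hd h3.symm

/-- the tables of `1, 8, 84, 112, 567, 1344` -/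
def VV5 : Fin 6 → ℕ := ![V1, V8, V84, V112, V567, V1344]

/-- the tables of `1, 8, 84, 567, 448, 1400` -/
def VV10 : Fin 6 → ℕ := ![V1, V8, V84, V567, V448, V1400]

/-- the matrix of `1, 8, 84, 567, 448, 1400` and the duals of the first five -/
def L10 : List (List ℤ) :=
  [[1, 8, 84, 567, 448, 1400, 1, 8, 84, 567, 448],
    [1, 7, 63, 378, 280, 875, 0, 1, 21, 189, 168],
    [1, 6, 42, 216, 136, 440, 0, 0, 0, 27, 24],
    [1, 5, 35, 156, 112, 330, 0, 0, 1, 15, 24],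
    [1, 5, 31, 135, 86, 265, 0, 0, 0, 6, 10],
    [1, 5, 26, 110, 56, 190, 0, 0, 0, 1, 0],
    [1, 4, 23, 82, 56, 159, 0, 0, 0, 1, 4],
    [1, 4, 20, 69, 42, 124, 0, 0, 0, 0, 2],
    [1, 4, 19, 65, 36, 111, 0, 0, 0, 0, 0],
    [1, 3, 15, 40, 29, 74, 0, 0, 0, 0, 1],
    [1, 3, 12, 30, 18, 49, 0, 0, 0, 0, 0]]

/-- the multiple of the inverse -/
def I10 : List (List ℤ) :=
  [[0, 0, 50, 0, -700, 4500, -1650, 4250, -12450, 3900, 2800],
    [0, 0, 540, 0, -3332, 552, 4860, 3060, -3280, -5200, 2800],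
    [0, 0, -420, 0, 2506, -1666, -2030, -4130, 5740, 1400, -1400],
    [0, 0, 170, 0, -896, 656, 130, 2130, -2290, 100, 0],
    [0, 0, 285, 0, -1603, 933, 990, 2840, -3345, -450, 350],
    [0, 0, -140, 0, 742, -462, -210, -1610, 1680, 0, 0],
    [700, -5600, 19270, 58800, -133476, 43436, 16630, 12830, -5890, -3900, -2800],
    [0, 700, -4180, -14700, 38234, -14874, -13470, 930, 4960, 5200, -2800],
    [0, 0, -140, 700, -1778, 1358, 2590, -2310, -420, -1400, 1400],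
    [0, 0, 110, 0, -448, 128, 290, 390, -370, -100, 0],
    [0, 0, -75, 0, 525, -275, -850, 100, 475, 450, -350]]

private noncomputable def _root_.Cfsg.Agent.LsF.fb5ac15_10 : {f // @Cfsg.Agent.H632.LB.Val.look = f} := ⟨_, by first | (delta Cfsg.Agent.H632.LB.Val.look; rewrite [Cfsg.Agent.LsF.fb5ac15_3.2, Cfsg.Agent.LsF.nmul_pat, Cfsg.Agent.LsF.ndiv_pat, Cfsg.Agent.LsF.nmod_pat, Cfsg.Agent.LsF.npow_pat]; exact rfl) | exact rfl⟩
private noncomputable def _root_.Cfsg.Agent.LsF.fb5ac15_11 : {f // @Cfsg.Agent.H632.LB.Val.Mat.rows = f} := ⟨_, by first | (delta Cfsg.Agent.H632.LB.Val.Mat.rows; rewrite [Cfsg.Agent.LsF.vecCons_eq, Cfsg.Agent.LsF.dFinEq_eq]; exact rfl) | exact rfl⟩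
private noncomputable def _root_.Cfsg.Agent.LsF.fb5ac15_12 : {f // @Cfsg.Agent.H632.LB.Val.Mat.dl = f} := ⟨_, by first | (delta Cfsg.Agent.H632.LB.Val.Mat.dl; rewrite [Cfsg.Agent.LsF.fb5ac15_10.2, Cfsg.Agent.LsF.imul_pat, Cfsg.Agent.LsF.ineg_pat, Cfsg.Agent.LsF.icast_pat, Cfsg.Agent.LsF.fsum_eq, Cfsg.Agent.LsF.fcard_eq, Cfsg.Agent.LsF.iACM_eq]; exact rfl) | exact rfl⟩
private noncomputable def _root_.Cfsg.Agent.LsF.fb5ac15_13 : {f // @Cfsg.Agent.H632.LB.Val.Mat.AM = f} := ⟨_, by first | (delta Cfsg.Agent.H632.LB.Val.Mat.AM; rewrite [Cfsg.Agent.LsF.fb5ac15_10.2, Cfsg.Agent.LsF.fb5ac15_11.2, Cfsg.Agent.LsF.fb5ac15_12.2, Cfsg.Agent.LsF.mof_pat, Cfsg.Agent.LsF.icast_pat]; exact rfl) | exact rfl⟩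
private noncomputable def _root_.Cfsg.Agent.LsF.fb5ac15_14 : {f // @Cfsg.Agent.H632.LB.Val.Mat.VV10 = f} := ⟨_, by first | (delta Cfsg.Agent.H632.LB.Val.Mat.VV10; rewrite [Cfsg.Agent.LsF.vecCons_eq]; exact rfl) | exact rfl⟩
private noncomputable def _root_.Cfsg.Agent.LsF.fb5ac15_15 : {f // @Cfsg.Agent.H632.LB.Val.Mat.mk = f} := ⟨_, by first | (delta Cfsg.Agent.H632.LB.Val.Mat.mk; rewrite [Cfsg.Agent.LsF.mof_pat, Cfsg.Agent.LsF.getD_eq]; exact rfl) | exact rfl⟩
theorem AM10' : ∀ i j : Fin 11, ((AM VV10 i j : ℤ) == (mk L10 i j : ℤ)) = true := by (refine of_decide_eq_true ?_; (try (rewrite [Cfsg.Agent.LsF.fb5ac15_13.2, Cfsg.Agent.LsF.fb5ac15_14.2, Cfsg.Agent.LsF.fb5ac15_15.2, Cfsg.Agent.LsF.ibeq_pat, Cfsg.Agent.LsF.dBoolEq_eq, Cfsg.Agent.LsF.dForallFin_eq, Cfsg.Agent.LsF.decide_eq])); decide +kernel)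

theorem AM10 : AM VV10 = mk L10 := by
  ext i j
  exact eq_of_beq (AM10' i j)

theorem inv10 : ∀ i j, (∑ k, mk L10 i k * mk I10 k j) = if i = j then 700 else 0 := by (refine of_decide_eq_true ?_; (try (rewrite [Cfsg.Agent.LsF.sumF_pat, Cfsg.Agent.LsF.fb5ac15_15.2, Cfsg.Agent.LsF.iadd_pat, Cfsg.Agent.LsF.imul_pat, Cfsg.Agent.LsF.iACM_eq, Cfsg.Agent.LsF.instIDecEq_eq, Cfsg.Agent.LsF.dFinEq_eq, Cfsg.Agent.LsF.dForallFin_eq, Cfsg.Agent.LsF.ite_eq, Cfsg.Agent.LsF.decide_eq])); decide +kernel)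

/-- **The determinant, `1, 8, 84, 567, 448, 1400` and duals.** -/
theorem det10 : (AM VV10).det ≠ 0 := by
  rw [AM10]
  exact det_ne (by norm_num) inv10

theorem mu_triv {Y : Type u} [Group Y] [Finite Y] (P : Subgroup Y) : mu P (1 : Y → ℂ) = 1 := by
  have := Fintype.ofFinite P
  have h0 : (Nat.card P : ℂ) ≠ 0 := Nat.cast_ne_zero.2 Nat.card_pos.ne'
  unfold H439.CC.mu
  rw [finsum_eq_sum_of_fintype]
  simp only [Pi.one_apply, Finset.sum_const, Finset.card_univ, nsmul_eq_mul, mul_one]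
  rw [← Nat.card_eq_fintype_card, inv_mul_cancel₀ h0]

section Mu

variable {W : Type v} {Y : Type u} [Group W] [Group Y]
    {M : CoxeterMatrix (Fin 8)} {cs : CoxeterSystem M W} {A : Fin 8 → Fin 8 → ℤ} {h : IsCartan M A} {T : Subgroup Y}
    {X : (Fin 8 → ℤ) → Subgroup Y}

/-- the dual -/
theorem mu_dl {V : ℕ} {χ χ' : Y → ℂ}
    (hχ : ∀ K, Inn K → mu (PJ cs h T X (K : Set (Fin 8))) χ = ((look V K : ℕ) : ℂ))
    (hD : ∀ K : Finset (Fin 8), Inn K → mu (PJ cs h T X (K : Set (Fin 8))) χ' =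
      ∑ L ∈ K.powerset, (-1) ^ L.card * mu (PJ cs h T X (L : Set (Fin 8))) χ) {K : Finset (Fin 8)} (hK : Inn K) :
    mu (PJ cs h T X (K : Set (Fin 8))) χ' = ((dl V K : ℤ) : ℂ) := by
  rw [hD K hK, dl]
  push_cast
  refine Finset.sum_congr rfl fun L hL => ?_
  rw [hχ L (Inn.sub hK (Finset.mem_powerset.1 hL))]

/-- **The entries.** -/
theorem mu_AM {V : Fin 6 → ℕ} {χ : Fin 6 → Y → ℂ} {χ' : Fin 5 → Y → ℂ}
    (hχ : ∀ j K, Inn K → mu (PJ cs h T X (K : Set (Fin 8))) (χ j) = ((look (V j) K : ℕ) : ℂ))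
    (hD : ∀ (j : Fin 5) (K : Finset (Fin 8)), Inn K → mu (PJ cs h T X (K : Set (Fin 8))) (χ' j) =
      ∑ L ∈ K.powerset, (-1) ^ L.card * mu (PJ cs h T X (L : Set (Fin 8))) (χ j.castSucc)) (i j : Fin 11) :
    mu (PJ cs h T X (rows i : Set (Fin 8))) ((Fin.append χ χ' : Fin 11 → Y → ℂ) j) = ((AM V i j : ℤ) : ℂ) := by
  show mu (PJ cs h T X (rows i : Set (Fin 8))) ((Fin.append χ χ' : Fin (6 + 5) → Y → ℂ) j) =
    (((Fin.append (fun j : Fin 6 => (look (V j) (rows i) : ℤ)) (fun j : Fin 5 => dl (V j.castSucc) (rows i)) :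
      Fin (6 + 5) → ℤ) j : ℤ) : ℂ)
  refine Fin.addCases (m := 6) (n := 5) (motive := fun j => mu (PJ cs h T X (rows i : Set (Fin 8)))
    ((Fin.append χ χ' : Fin (6 + 5) → Y → ℂ) j) = (((Fin.append (fun j : Fin 6 => (look (V j) (rows i) : ℤ))
      (fun j : Fin 5 => dl (V j.castSucc) (rows i)) : Fin (6 + 5) → ℤ) j : ℤ) : ℂ)) (fun j => ?_) (fun j => ?_) j
  · rw [Fin.append_left, Fin.append_left, hχ j _ (inn_rows i)]
    push_cast
    rfl
  · rw [Fin.append_right, Fin.append_right]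
    exact mu_dl (hχ _) (hD j) (inn_rows i)

end Mu

section Mem

variable {W : Type v} {Y : Type u} [Group W] [Finite W] [Group Y] [Finite Y]
    {M : CoxeterMatrix (Fin 8)} {cs : CoxeterSystem M W} {h : IsCartan M TabE8c.A} {p : ℕ} {T : Subgroup Y}
    {n : Fin 8 → Y} {X : (Fin 8 → ℤ) → Subgroup Y} (R : RGD cs h p T n X) (hG : GG cs h T X = ⊤)

variable (hF : Fam cs h) {x : ℕ} (hx : 2 ≤ x) (hq : ∀ i, Nat.card (X (sr i)) = x)

include hF hx hq

/-- **The members for `Φ₅`** -/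
theorem mu_five {χ : Fin 6 → Y → ℂ} (h0 : χ 0 = 1) (h8 : Is7 R hG x TabE8a.c1 (χ 1)) (h84 : Is7 R hG x TabE8a.c3 (χ 2))
    (h112 : Is7 R hG x TabE8a.c4 (χ 3)) (h567 : Is6 R hG x E567.C (χ 4)) (h1344 : Is6 R hG x Ea12.C (χ 5)) (j : Fin 6)
    (K : Finset (Fin 8)) (hK : Inn K) :
    mu (PJ cs h T X (K : Set (Fin 8))) (χ j) = ((look (VV5 j) K : ℕ) : ℂ) := by
  fin_cases j
  · show mu (PJ cs h T X (K : Set (Fin 8))) (χ 0) = ((look V1 K : ℕ) : ℂ)
    rw [h0, mu_triv, look_V1 K hK, Nat.cast_one]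
  · exact mu_8 R hG hF hx hq hK h8
  · exact mu_84 R hG hF hx hq hK h84
  · exact mu_112 R hG hF hx hq hK h112
  · exact mu_567 R hG hF hx hq hK h567
  · exact mu_1344 R hG hF hx hq hK h1344

/-- **The members for `Φ₁₀`** -/
theorem mu_ten {χ : Fin 6 → Y → ℂ} (h0 : χ 0 = 1) (h8 : Is7 R hG x TabE8a.c1 (χ 1)) (h84 : Is7 R hG x TabE8a.c3 (χ 2))
    (h567 : Is6 R hG x E567.C (χ 3)) (h448 : Is6 R hG x E448.C (χ 4)) (h1400 : Is6 R hG x E1400.C (χ 5)) (j : Fin 6)
    (K : Finset (Fin 8)) (hK : Inn K) :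
    mu (PJ cs h T X (K : Set (Fin 8))) (χ j) = ((look (VV10 j) K : ℕ) : ℂ) := by
  fin_cases j
  · show mu (PJ cs h T X (K : Set (Fin 8))) (χ 0) = ((look V1 K : ℕ) : ℂ)
    rw [h0, mu_triv, look_V1 K hK, Nat.cast_one]
  · exact mu_8 R hG hF hx hq hK h8
  · exact mu_84 R hG hF hx hq hK h84
  · exact mu_567 R hG hF hx hq hK h567
  · exact mu_448 R hG hF hx hq hK h448
  · exact mu_1400 R hG hF hx hq hK h1400

end Mem

end Cfsg.Agent.H632.LB.Val.Mat
end

private theorem dce_d88f92cfc17c : _root_.True := by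
  try have : _root_.True := by simp only [_root_.Cfsg.Agent.H632.LB.psiR.eq_def]
  try have : _root_.True := by simp only [_root_.Cfsg.Agent.H632.LB.ff.congr_simp]
  try have : _root_.True := by simp only [_root_.Cfsg.Agent.H632.LB.psiR.eq_2]
  try have : _root_.True := by simp only [_root_.Cfsg.Agent.H632.LB.psiR.eq_1]
  try have : _root_.True := by simp only [_root_.Cfsg.Agent.H967.Sph.cnt.congr_simp]
  try have : _root_.True := by simp only [_root_.Cfsg.Agent.H632.LB.Val.Mat.dl.eq_1]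
  try have : _root_.True := by simp only [_root_.Cfsg.Agent.H632.LB.Val.look.eq_1]
  exact _root_.True.intro
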